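import Mathlib
import Cfsg.Agent.Lib.StdInt.Amb
import Cfsg.Agent.Lib.Fgs.ClassSize
import Cfsg.Agent.Lib.PDApp.Crit
import Cfsg.Agent.Lib.PDApp.Final
import Cfsg.Agent.Lib.ONRec.Main

/-! Standard subgroups with cyclic centre of order four: the part that does not depend on the model. -/

set_option autoImplicit false

namespace CfsgLib.ONStd

open Subgroup CfsgLib.StdInt

variable {G : Type*} [Group G] [Finite G] {t : G}

/-- the class of `t` has odd length if the products of commuting pairs stay in the class -/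
theorem odd_index (tt : t * t = 1) (t1 : t ≠ 1)
    (neg : ∀ s, IsConj t s → Commute s t → s ≠ t → IsConj t (s * t)) : ¬ 2 ∣ (centralizer ({t} : Set G)).index := by
  classical
  have := Fintype.ofFinite G
  have h0 : ∀ x, IsConj t x → x ≠ 1 := fun x hx e => t1 (isConj_one_left.1 (e ▸ hx))
  let f : Function.End {x // IsConj t x} := fun x =>
    if h : Commute x.1 t then (if h' : x.1 = t then x else ⟨x.1 * t, neg _ x.2 h h'⟩)
    else ⟨t * x * t⁻¹, x.2.trans (isConj_iff.2 ⟨t, rfl⟩)⟩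
  have h1 := Equiv.Perm.card_fixedPoints_modEq (f := f) (p := 2) (n := 1) (funext fun x => by
    change f (f x) = x
    by_cases h : Commute x.1 t
    · by_cases h' : x.1 = t
      · simp [f, h']
      · have a1 : Commute (x.1 * t) t := h.mul_left rfl
        have a2 : x.1 * t ≠ t := fun e => h0 _ x.2 (mul_eq_right.1 e)
        simp [f, h, h', a1, a2, mul_assoc, tt]
    · have a1 : ¬ Commute (t * x.1 * t⁻¹) t := fun e => h (by simpa [mul_assoc] using e.map (MulAut.conj t⁻¹))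
      simp only [f, h, a1, dif_neg, not_false_eq_true]
      exact Subtype.ext (show t * (t * x * t⁻¹) * t⁻¹ = x by
        rw [show t * (t * x * t⁻¹) * t⁻¹ = (t * t) * x * (t * t)⁻¹ by group, tt]; group))
  have h2 : Fintype.card {x // IsConj t x} = (centralizer ({t} : Set G)).index := by
    rw [← Fgs.ncard_isConj_eq_index, ← Nat.card_eq_fintype_card]; rfl
  have h3 : Fintype.card f.fixedPoints = 1 := Fintype.card_eq_one_iff.2 ⟨⟨⟨t, IsConj.refl t⟩, by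
    simp [f, Function.IsFixedPt]⟩, fun ⟨x, hx⟩ => Subtype.ext (Subtype.ext (by
      by_contra h'
      by_cases h : Commute x.1 t
      · simp only [f, Function.mem_fixedPoints_iff, h, h', dif_pos, dif_neg, not_false_eq_true] at hx
        exact t1 (mul_eq_left.1 (congrArg Subtype.val hx))
      · simp only [f, Function.mem_fixedPoints_iff, h, dif_neg, not_false_eq_true] at hx
        exact h (mul_inv_eq_iff_eq_mul.1 (congrArg Subtype.val hx)).symm))⟩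
  rw [h2, h3] at h1
  exact fun e => absurd (((Nat.modEq_zero_iff_dvd.2 e).symm.trans h1)) (by decide)

/-- a non-solvable subgroup that controls the fusion of `t` in its centraliser is everything -/
theorem eq_top_of_closed [IsSimpleGroup G] (tt : t * t = 1) (t1 : t ≠ 1)
    (neg : ∀ s, IsConj t s → Commute s t → s ≠ t → IsConj t (s * t)) {M : Subgroup G}
    (hM : ∀ g, Commute (g * t * g⁻¹) t → g ∈ M) (h2 : Bender.Rank2 G) (hs : ¬ Group.IsSolvable M) : M = ⊤ := by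
  by_contra hT
  have ht : orderOf t = 2 := orderOf_eq_prime (by rw [pow_two, tt]) t1
  obtain ⟨S, hS⟩ := Fgs.exists_sylow_le_of_not_dvd_index (odd_index tt t1 neg)
  have hC : centralizer {t} ≤ M := fun c hc => hM c (by
    rw [mem_centralizer_singleton_iff.1 hc, mul_inv_cancel_right])
  have h2t : IsPGroup 2 (zpowers t) := IsPGroup.of_card (n := 1) (by rw [Nat.card_zpowers, ht, pow_one])
  refine hs (ONRec.isSolvable_of_se h2 (PDApp.s1175 PDApp.pdc M hT t ht (hC (mem_centralizer_singleton_iff.2 rfl))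
    ⟨S, ?_, fun s hs => mem_centralizer_singleton_iff.1 (hS hs)⟩ (fun g hg => ?_) fun g h4 h5 c hc => ?_))
  · have := S.is_maximal' (h2t.to_sup_of_normal_right' S.isPGroup' (zpowers_le_of_mem
      (mem_normalizer_fintype fun y hy => by
        rwa [← mem_centralizer_singleton_iff.1 (hS hy), mul_inv_cancel_right]))) le_sup_right
    exact (le_sup_left.trans this.le) (mem_zpowers t)
  · have h4 : IsPGroup 2 (zpowers (⟨_, hg⟩ : M)) := IsPGroup.of_card (n := 1) (by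
      rw [Nat.card_zpowers, ← orderOf_coe, pow_one]
      exact (StrEmb.orderOf_conj _ _).trans ht)
    obtain ⟨T, hT⟩ := h4.exists_le_sylow
    obtain ⟨m, hm⟩ := MulAction.exists_smul_eq M T (S.subtype (hS.trans hC))
    have h5 : m * ⟨_, hg⟩ * m⁻¹ ∈ S.subtype (hS.trans hC) :=
      hm ▸ Subgroup.smul_mem_pointwise_smul _ (MulAut.conj m) _ (hT (mem_zpowers _))
    have h6 := hM (m * g) (by
      convert mem_centralizer_singleton_iff.1 (hS h5) using 0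
      simp [Commute, SemiconjBy, mul_assoc])
    exact (mul_mem_cancel_left m.2).1 h6
  · obtain ⟨x, hx⟩ := isConj_iff.1 (neg _ (isConj_iff.2 ⟨g, rfl⟩) h4.symm h5)
    have h6 := hM x (hx ▸ h4.symm.mul_left rfl)
    have h7 : x⁻¹ * c * x ∈ M := hC (mem_centralizer_singleton_iff.2 (comm_conj.1 (by
      rw [hx, ← h4.eq]; exact mem_centralizer_singleton_iff.1 hc)))
    exact (mul_mem_cancel_left (inv_mem h6)).1 ((mul_mem_cancel_right h6).1 h7)

/-- `h` induces an inner automorphism -/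
def Inn (L K : Subgroup G) (h : G) : Prop := ∃ l ∈ L, ∃ k ∈ K, h = l * k

/-- the facts about `L`, its centraliser `K`, the central element `z`, `t = z²` and an involution `v` -/
structure Fr (L K : Subgroup G) (z t v : G) : Prop where
  zz : z * z = t
  tt : t * t = 1
  t1 : t ≠ 1
  zL : z ∈ L
  zK : z ∈ K
  vL : v ∈ L
  vv : v * v = 1
  v1 : v ≠ 1
  vt : v ≠ t
  comm : ∀ l ∈ L, ∀ k ∈ K, Commute l k
  inter : ∀ x ∈ L, x ∈ K → x ∈ zpowers z
  nL : ∀ h, Commute h t → ∀ l ∈ L, h * l * h⁻¹ ∈ L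
  nK : ∀ h, Commute h t → ∀ k ∈ K, h * k * h⁻¹ ∈ K
  invC : ∀ r ∈ K, r * r = 1 → r ≠ 1 → ∀ c, Commute c r → Commute c t
  tight : ∀ g, ¬Commute g t → ∀ x ∈ K, g⁻¹ * x * g ∈ K → Odd (orderOf x)
  sq : ∀ h, Commute h t → Inn L K (h * h)
  dec : ∀ l ∈ L, l * l ∈ K → ∃ u ∈ L, u ∈ K ∧ l * u * (l * u) = 1
  cls : ∀ l ∈ L, l * l = 1 → l ≠ 1 → l ≠ t → ∃ c ∈ L, c * v * c⁻¹ = l
  two : ∀ l ∈ L, Commute l v → l ^ 2 ^ 7 = 1
  cen : ∀ l ∈ L, l * l = 1 → l ≠ 1 → l ≠ t → (∀ c ∈ L, Commute c l → Commute c v) → l = v ∨ l = v * t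
  out : ∀ h, Commute h t → h * h = 1 → ¬Inn L K h → (∃ w ∈ L, w ^ 3 = 1 ∧ w ≠ 1 ∧ Commute w h) ∧
    ∃ a ∈ L, ∃ b ∈ L, ∃ q, Commute a h ∧ Commute b h ∧ a * a * (b * b) = q ∧ q * q = 1 ∧ q ≠ 1 ∧
      (q = t ∨ ∃ c, c * h * c⁻¹ = h * q)

namespace Fr

variable {L K : Subgroup G} {z v g : G} (F : Fr L K z t v)
include F

omit [Finite G]

theorem tL : t ∈ L := F.zz ▸ mul_mem F.zL F.zL

theorem tK : t ∈ K := F.zz ▸ mul_mem F.zK F.zK

theorem cL {l : G} (h : l ∈ L) : Commute l t := F.comm l h t F.tK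

theorem cK {k : G} (h : k ∈ K) : Commute k t := (F.comm t F.tL k h).symm

theorem ord : orderOf t = 2 := orderOf_eq_prime (by rw [pow_two, F.tt]) F.t1

theorem mem_z {x : G} (h : x ∈ zpowers z) : x = 1 ∨ x = z ∨ x = t ∨ x = z * t := by
  have h4 : z ^ (4 : ℤ) = 1 := by
    rw [← F.tt, ← F.zz, show (4 : ℤ) = 1 + 1 + (1 + 1) from rfl]; simp only [zpow_add, zpow_one]
  obtain ⟨n, rfl⟩ := h
  simp only
  rw [← Int.emod_add_mul_ediv n 4, zpow_add, zpow_mul, h4, one_zpow, mul_one, ← F.zz]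
  have h1 : n % 4 = 0 ∨ n % 4 = 1 ∨ n % 4 = 1 + 1 ∨ n % 4 = 1 + (1 + 1) := by omega
  rcases h1 with e | e | e | e <;> simp only [e, zpow_add, zpow_one, zpow_zero, true_or, or_true]

theorem zt_sq : z * t * (z * t) = t := by
  rw [← pow_two, (F.cL F.zL).mul_pow, pow_two, pow_two, F.zz, F.tt, mul_one]

theorem nz {h : G} (hh : Commute h t) : h * z * h⁻¹ = z ∨ h * z * h⁻¹ = z * t := by
  have h1 : h * z * h⁻¹ * (h * z * h⁻¹) = t := by rw [conj_mul, F.zz, hh.eq, mul_inv_cancel_right]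
  rcases F.mem_z (F.inter _ (F.nL h hh z F.zL) (F.nK h hh z F.zK)) with e | e | e | e
  · rw [e, mul_one] at h1; exact absurd h1.symm F.t1
  · exact Or.inl e
  · rw [e, F.tt] at h1; exact absurd h1.symm F.t1
  · exact Or.inr e

theorem inn_mul {a b : G} (ha : Inn L K a) (hb : Inn L K b) : Inn L K (a * b) := by
  obtain ⟨l, hl, k, hk, rfl⟩ := ha
  obtain ⟨l', hl', k', hk', rfl⟩ := hb
  exact ⟨_, mul_mem hl hl', _, mul_mem hk hk', ((F.comm l' hl' k hk).symm.mul_mul_mul_comm _ _)⟩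

theorem inn_comm {a : G} (ha : Inn L K a) : Commute a t ∧ Commute a z := by
  obtain ⟨l, hl, k, hk, rfl⟩ := ha
  exact ⟨(F.cL hl).mul_left (F.cK hk), (F.comm l hl z F.zK).mul_left (F.comm z F.zL k hk).symm⟩

/-- an inner involution is a product of two involutions -/
theorem inn_dec {h : G} (hi : Inn L K h) (h2 : h * h = 1) (hK : h ∉ K) :
    ∃ l ∈ L, ∃ k ∈ K, h = l * k ∧ l * l = 1 ∧ l ≠ 1 ∧ l ≠ t ∧ k * k = 1 := by
  obtain ⟨l, hl, k, hk, rfl⟩ := hi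
  obtain ⟨u, u1, u2, e⟩ := F.dec l hl (by
    rw [(F.comm l hl k hk).symm.mul_mul_mul_comm, mul_eq_one_iff_eq_inv] at h2
    exact h2 ▸ inv_mem (mul_mem hk hk))
  have h3 := mul_mem (inv_mem u2) hk
  rw [show l * k = l * u * (u⁻¹ * k) by group] at h2 hK ⊢
  exact ⟨_, mul_mem hl u1, _, h3, rfl, e, fun e => hK (by rwa [e, one_mul]), fun e => hK (e ▸ mul_mem F.tK h3), by
    rwa [(F.comm _ (mul_mem hl u1) _ h3).symm.mul_mul_mul_comm, e, one_mul] at h2⟩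

theorem two' {l c : G} (hl : l ∈ L) (h : l * l = 1) (h1 : l ≠ 1) (h2 : l ≠ t) (hc : c ∈ L) (e : Commute c l) :
    c ^ 2 ^ 7 = 1 := by
  obtain ⟨d, hd, rfl⟩ := F.cls l hl h h1 h2
  have := F.two _ (mul_mem (mul_mem (inv_mem hd) hc) hd) (comm_conj.1 e)
  rwa [show d⁻¹ * c * d = d⁻¹ * c * d⁻¹⁻¹ by rw [inv_inv], conj_pow, conj_eq_one_iff] at this

theorem cen' {l l' : G} (hl : l ∈ L) (h : l * l = 1) (h1 : l ≠ 1) (h2 : l ≠ t) (hl' : l' ∈ L) (h' : l' * l' = 1)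
    (h1' : l' ≠ 1) (h2' : l' ≠ t) (e : ∀ c ∈ L, Commute c l' → Commute c l) : l' * l ∈ K := by
  obtain ⟨d, hd, rfl⟩ := F.cls l hl h h1 h2
  have dt := (F.cL hd).inv_left
  rcases F.cen (d⁻¹ * l' * d⁻¹⁻¹) (F.nL _ dt _ hl') (ONRec.conj_sq _ h') (fun e => h1' (conj_eq_one_iff.1 e))
    (fun e => h2' ((MulAut.conj d⁻¹).injective (e.trans (mul_inv_eq_iff_eq_mul.2 dt).symm))) (fun c hc e' => by
      have := e (d * c * d⁻¹) (mul_mem (mul_mem hd hc) (inv_mem hd)) (by simpa using comm_conj.1 e')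
      simpa [mul_assoc] using comm_conj.1 this) with e | e
  · rw [show l' = d * v * d⁻¹ by rw [← e]; group, ONRec.conj_sq _ F.vv]; exact one_mem K
  · rw [show l' = d * (v * t) * d⁻¹ by rw [← e]; group, conj_mul, mul_assoc v, ← (F.cL F.vL).eq, ← mul_assoc v, F.vv,
      one_mul]
    exact F.nK d (F.cL hd) t F.tK

omit F in
theorem inn_L {l : G} (h : l ∈ L) : Inn L K l := ⟨l, h, 1, one_mem K, (mul_one l).symm⟩

theorem notK (h2 : g * t * g⁻¹ ≠ t) : g * t * g⁻¹ ∉ K := fun h => F.t1 (conj_eq_one_iff.1 (eq_one_of_odd_sq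
  (F.tight g (fun e => h2 (mul_inv_eq_iff_eq_mul.2 e)) _ h (by simpa [mul_assoc] using F.tK)) (ONRec.conj_sq g F.tt)))

theorem sq_inn {a : G} (h : Commute a (g * t * g⁻¹)) : Inn L K (g⁻¹ * (a * a) * g) := by
  simpa [mul_assoc] using F.sq _ (comm_conj.1 h)

theorem inn_symm (h : Commute z (g * t * g⁻¹)) : Inn L K (g⁻¹ * t * g⁻¹⁻¹) := by
  simpa [F.zz] using F.sq_inn h

/-- the only involution of the conjugate of `K` that commutes with `t` -/
theorem uniq (h1 : Inn L K (g * t * g⁻¹)) (h2 : g * t * g⁻¹ ≠ t) {r : G} (hr : g⁻¹ * r * g ∈ K) (r2 : r * r = 1)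
    (r1 : r ≠ 1) (rt : Commute r t) : r = g * t * g⁻¹ := by
  have hg : ¬Commute g t := fun e => h2 (mul_inv_eq_iff_eq_mul.2 e)
  have hC : ∀ c, Commute c r → Commute c (g * t * g⁻¹) := fun c hc => comm_conj.2
    (F.invC _ hr (by simpa using ONRec.conj_sq g⁻¹ r2) (fun e => r1 (conj_eq_one_iff.1 (by simpa using e :
      g⁻¹ * r * g⁻¹⁻¹ = 1))) _ (by simpa using hc.map (MulAut.conj g⁻¹)))
  obtain ⟨l, hl, k, hk, e, l2, l1, lt, -⟩ := F.inn_dec h1 (ONRec.conj_sq g F.tt) (F.notK h2)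
  have hl' : ∀ c ∈ L, Commute c r → Commute c l := fun c hc h => by
    have h3 : Commute c (l * k) := e ▸ hC c h
    simpa using h3.mul_right (F.comm c hc k hk).inv_right
  by_cases hi : Inn L K r
  · obtain ⟨l', hl1, k', hk1, e', a2, a1, a3, -⟩ := F.inn_dec hi r2 fun h => r1 (eq_one_of_odd_sq (F.tight g hg r h hr) r2)
    have h3 := F.cen' hl l2 l1 lt hl1 a2 a1 a3 fun c hc h => hl' c hc (e' ▸ h.mul_right (F.comm c hc k' hk1))
    have h4 : r * (g * t * g⁻¹) = 1 := eq_one_of_odd_sq (F.tight g hg _ (by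
      rw [e, e', (F.comm l hl k' hk1).symm.mul_mul_mul_comm]; exact mul_mem h3 (mul_mem hk1 hk))
      (by simpa [mul_assoc] using mul_mem hr F.tK))
      (by rw [(hC r rfl).symm.mul_mul_mul_comm, r2, ONRec.conj_sq g F.tt, mul_one])
    exact (eq_inv_of_mul_eq_one_left h4).trans (eq_inv_of_mul_eq_one_left (ONRec.conj_sq g F.tt)).symm
  · obtain ⟨⟨w, hw, w3, w1, wr⟩, -⟩ := F.out r rt r2 hi
    have := F.two' hl l2 l1 lt hw (hl' w hw wr)
    rw [show 2 ^ 7 = 3 * 42 + 2 by norm_num, pow_add, pow_mul, w3, one_pow, one_mul] at this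
    rw [pow_succ, this, one_mul] at w3
    exact absurd w3 w1

theorem mem_symm (h1 : Inn L K (g * t * g⁻¹)) (h2 : g * t * g⁻¹ ≠ t) : g⁻¹ * t * g⁻¹⁻¹ ∈ L := by
  obtain ⟨l, hl, k, hk, e, -, -, -, k2⟩ := F.inn_dec (F.inn_symm (F.inn_comm h1).2.symm) (ONRec.conj_sq _ F.tt)
    (F.notK (inv_ne h2))
  by_cases k1 : k = 1
  · rwa [e, k1, mul_one]
  · have h3 := F.uniq h1 h2 (r := g * k * g⁻¹) (by simpa [mul_assoc] using hk) (ONRec.conj_sq g k2)
      (fun e => k1 (conj_eq_one_iff.1 e)) (comm_conj.2 (by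
        rw [show g⁻¹ * t * g = l * k by simpa using e]; exact (F.comm l hl k hk).mul_left rfl)).symm
    rw [e, (MulAut.conj g).injective h3]
    exact mul_mem hl F.tL

theorem mem (h1 : Inn L K (g * t * g⁻¹)) : g * t * g⁻¹ ∈ L := by
  by_cases h2 : g * t * g⁻¹ = t
  · rw [h2]; exact F.tL
  · simpa using F.mem_symm (F.inn_symm (F.inn_comm h1).2.symm) (inv_ne h2)

theorem mem_inv (h1 : g * t * g⁻¹ ∈ L) : g⁻¹ * t * g ∈ L := by
  simpa using F.mem (F.inn_symm (F.comm _ h1 z F.zK).symm)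

theorem exists_v (h1 : Commute (g * t * g⁻¹) t) (h2 : g * t * g⁻¹ ≠ t) : ∃ g, g * t * g⁻¹ = v := by
  obtain ⟨g, h1, h2⟩ : ∃ g, Inn L K (g * t * g⁻¹) ∧ g * t * g⁻¹ ≠ t := by
    by_cases hi : Inn L K (g * t * g⁻¹)
    · exact ⟨g, hi, h2⟩
    obtain ⟨-, a, -, b, -, q, a1, b1, e, -, q1, h⟩ := F.out _ h1 (ONRec.conj_sq g F.tt) hi
    have h3 : Inn L K (g⁻¹ * q * g) := by simpa [← e, mul_assoc] using F.inn_mul (F.sq_inn a1) (F.sq_inn b1)
    rcases h with rfl | ⟨c, h⟩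
    · exact ⟨g⁻¹, by simpa using h3, inv_ne h2⟩
    · have h4 : g⁻¹ * c * g * t * (g⁻¹ * c * g)⁻¹ = t * (g⁻¹ * q * g) := by
        rw [show q = (g * t * g⁻¹)⁻¹ * (c * (g * t * g⁻¹) * c⁻¹) by rw [h]; group]; group
      exact ⟨g⁻¹ * c * g, h4 ▸ F.inn_mul (inn_L F.tL) h3, fun e => q1 (conj_eq_one_iff.1
        (by simpa using h4.symm.trans e : g⁻¹ * q * g⁻¹⁻¹ = 1))⟩
  obtain ⟨c, -, e⟩ := F.cls _ (F.mem h1) (ONRec.conj_sq g F.tt) (fun e => F.t1 (conj_eq_one_iff.1 e)) h2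
  exact ⟨c⁻¹ * g, by rw [show v = c⁻¹ * (c * v * c⁻¹) * c by group, e]; group⟩

theorem comm_K (h : g * t * g⁻¹ ∈ L) {k : G} (hk : k ∈ K) : Commute (g * k * g⁻¹) t :=
  (comm_conj.2 (F.comm _ (F.mem_inv h) k hk)).symm

theorem uniqK (hg : g * t * g⁻¹ = v) {r : G} (hr : r ∈ K) (r2 : r * r = 1) : r = 1 ∨ r = t :=
  or_iff_not_imp_left.2 fun r1 => (MulAut.conj g).injective (F.uniq (hg ▸ inn_L F.vL) (hg ▸ F.vt)
    (by simpa [mul_assoc] using hr) (ONRec.conj_sq g r2) (fun e => r1 (conj_eq_one_iff.1 e)) (F.comm_K (hg ▸ F.vL) hr))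

theorem inn_mem (hg : g * t * g⁻¹ = v) {h : G} (hi : Inn L K h) (h2 : h * h = 1) : h ∈ L := by
  have key : ∀ k ∈ K, k * k = 1 → k ∈ L := fun k hk k2 =>
    (F.uniqK hg hk k2).elim (fun e => e ▸ one_mem L) fun e => e ▸ F.tL
  by_cases hK : h ∈ K
  · exact key h hK h2
  · obtain ⟨l, hl, k, hk, rfl, -, -, -, k2⟩ := F.inn_dec hi h2 hK
    exact mul_mem hl (key k hk k2)

theorem conj_L (hg : g * t * g⁻¹ = v) {l : G} (hl : l ∈ L) (h : l * l = 1) (h1 : l ≠ 1) : ∃ x, x * t * x⁻¹ = l := by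
  by_cases h2 : l = t
  · exact ⟨1, by rw [h2]; group⟩
  · obtain ⟨c, -, rfl⟩ := F.cls l hl h h1 h2
    exact ⟨c * g, by rw [← hg]; group⟩

theorem neg (hg : g * t * g⁻¹ = v) (s : G) (h : IsConj t s) (h1 : Commute s t) (h2 : s ≠ t) : IsConj t (s * t) := by
  obtain ⟨x, rfl⟩ := isConj_iff.1 h
  rcases F.nz h1 with e | e
  · have h3 : x * t * x⁻¹ ∈ L := by simpa using F.mem_inv (F.mem (F.inn_symm (mul_inv_eq_iff_eq_mul.1 e).symm))
    exact isConj_iff.2 (F.conj_L hg (mul_mem h3 F.tL) (by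
      rw [h1.symm.mul_mul_mul_comm, ONRec.conj_sq x F.tt, F.tt, mul_one]) fun e =>
        h2 ((eq_inv_of_mul_eq_one_left e).trans (eq_inv_of_mul_eq_one_left F.tt).symm))
  · refine h.trans (isConj_iff.2 ⟨z⁻¹, ?_⟩)
    rw [h1.eq, inv_inv, mul_assoc, mul_inv_eq_iff_eq_mul.1 e]; group

theorem two_K (hg : g * t * g⁻¹ = v) (h8 : ∀ r, Commute r t → Commute r v → r ^ 4 = v → ∃ c, Commute c v ∧
    (c * r * c⁻¹ * r⁻¹ = t ∨ (c * r * c⁻¹ * r⁻¹) ^ 2 = t)) {k : G} (hk : k ∈ K) (h : Two k) : k ∈ zpowers z := by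
  obtain ⟨n, h⟩ := h
  have tz : t ∈ zpowers z := F.zz ▸ mul_mem (mem_zpowers z) (mem_zpowers z)
  have key : ∀ k ∈ K, k * k = 1 → k ∈ zpowers z := fun k hk k2 =>
    (F.uniqK hg hk k2).elim (fun e => e ▸ one_mem _) fun e => e ▸ tz
  induction n generalizing k with
  | zero => rw [show k = 1 by simpa using h]; exact one_mem _
  | succ n ih =>
    have h4 : k * k * (k * k) ≠ t := fun e => by
      obtain ⟨c, c1, c2⟩ := h8 (g * k * g⁻¹) (F.comm_K (hg ▸ F.vL) hk) (hg ▸ (F.cK hk).map (MulAut.conj g))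
        (by rw [conj_pow, ← hg, ← e]; simp only [pow_succ, pow_zero, one_mul, mul_assoc])
      have h5 : c * (g * k * g⁻¹) * c⁻¹ * (g * k * g⁻¹)⁻¹ ∈ cj g K := mem_cj.2 (by
        simpa [mul_assoc] using mul_mem (F.nK _ (comm_conj.1 (hg ▸ c1)) k hk) (inv_mem hk))
      exact F.notK (inv_ne (hg ▸ F.vt)) (by
        simpa using mem_cj.1 (c2.elim (fun e => e ▸ h5) fun e => e ▸ pow_mem h5 2))
    rcases F.mem_z (ih (mul_mem hk hk) (by rw [← pow_two, ← pow_mul, ← pow_succ', h])) with e | e | e | e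
    · exact key k hk e
    · exact absurd (by rw [e, F.zz]) h4
    · exact (mul_mem_cancel_right (mem_zpowers z)).1 (key _ (mul_mem hk F.zK) (by
        rw [(F.comm z F.zL k hk).mul_mul_mul_comm, e, F.zz, F.tt]))
    · exact absurd (by rw [e, F.zt_sq]) h4

theorem nz' {c : G} (hc : Commute c (g * t * g⁻¹)) :
    c * (g * z * g⁻¹) * c⁻¹ = g * z * g⁻¹ ∨ c * (g * z * g⁻¹) * c⁻¹ = g * z * g⁻¹ * (g * t * g⁻¹) :=
  (F.nz (comm_conj.1 hc)).imp (fun e => by nth_rw 2 [← e]; group) fun e => by rw [conj_mul, ← e]; group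

theorem exists_swap (hg : g * t * g⁻¹ = v) : ∃ m, m * t * m⁻¹ = v ∧ m * v * m⁻¹ = t := by
  obtain ⟨c, hc, e⟩ := F.cls _ (F.mem_inv (hg ▸ F.vL)) (by simpa using ONRec.conj_sq g⁻¹ F.tt)
    (fun e => F.t1 (conj_eq_one_iff.1 (by simpa using e : g⁻¹ * t * g⁻¹⁻¹ = 1))) fun e =>
      inv_ne (g := g) (hg ▸ F.vt) (by rwa [inv_inv])
  exact ⟨g * c, by rw [← hg, mul_assoc g, (F.cL hc).eq]; group,
    by rw [show g * c * v * (g * c)⁻¹ = g * (c * v * c⁻¹) * g⁻¹ by group, e]; group⟩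

omit F in
theorem mem_of_odd {H : Subgroup G} {x : G} (ho : Odd (orderOf x)) {n : ℕ} (h : x ^ 2 ^ n ∈ H) : x ∈ H :=
  zpowers_le.2 h (mem_zpowers_pow_iff.2 (Nat.Coprime.pow_left n (Nat.coprime_two_left.2 ho)))

theorem odd_mem (h1 : g * t * g⁻¹ ∈ L) {w : G} (hw : w ∈ K) (ho : Odd (orderOf w)) : g * w * g⁻¹ ∈ K := by
  by_cases h2 : g * t * g⁻¹ = t
  · exact F.nK g (mul_inv_eq_iff_eq_mul.1 h2) w hw
  have h3 := odd_conj g ho
  obtain ⟨l, hl, k, hk, e⟩ := F.sq _ (F.comm_K h1 hw)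
  have h4 : Commute (l * k) (g * t * g⁻¹) :=
    e ▸ (((F.cK hw).map (MulAut.conj g)).mul_left ((F.cK hw).map (MulAut.conj g)))
  have h5 := F.two' h1 (ONRec.conj_sq g F.tt) (fun e => F.t1 (conj_eq_one_iff.1 e)) h2 hl
    (by simpa using h4.mul_left (F.comm _ h1 k hk).symm.inv_left)
  refine mem_of_odd h3 (n := 7 + 1) ?_
  rw [pow_succ', pow_mul, pow_two, e, (F.comm l hl k hk).mul_pow, h5, one_mul]
  exact pow_mem hk _

theorem le [Finite G] [IsSimpleGroup G] (hs : ¬Group.IsSolvable L) (hg : g * t * g⁻¹ = v)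
    (h2 : ∀ k ∈ K, Two k → k ∈ zpowers z) : K ≤ L := by
  let θ := K ⊓ cj g K
  have hθ : ∀ w, w ∈ θ ↔ w ∈ K ∧ Odd (orderOf w) := fun w =>
    ⟨fun h => ⟨h.1, F.tight g (fun e => F.vt (hg ▸ mul_inv_eq_iff_eq_mul.2 e)) w h.1 (mem_cj.1 h.2)⟩, fun h =>
      ⟨h.1, mem_cj.2 (by simpa using F.odd_mem (g := g⁻¹) (by simpa using F.mem_inv (hg ▸ F.vL)) h.1 h.2)⟩⟩
  have h3 : ∀ x, x * t * x⁻¹ ∈ L → x ∈ normalizer (θ : Set G) := fun x hx => mem_normalizer_fintype fun w hw =>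
    (hθ _).2 ⟨F.odd_mem hx ((hθ w).1 hw).1 ((hθ w).1 hw).2, odd_conj x ((hθ w).1 hw).2⟩
  have h4 := eq_top_of_closed F.tt F.t1 (F.neg hg) (M := normalizer (θ : Set G)) (fun x hx => by
    by_cases hi : Inn L K (x * t * x⁻¹)
    · exact h3 x (F.mem hi)
    obtain ⟨-, a, ha, b, hb, q, a1, b1, e, q2, q1, -⟩ := F.out _ hx (ONRec.conj_sq x F.tt) hi
    obtain ⟨y, rfl⟩ := F.conj_L hg (e ▸ mul_mem (mul_mem ha ha) (mul_mem hb hb)) q2 q1
    have h5 := F.inn_mul (F.sq_inn a1) (F.sq_inn b1)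
    rw [show x⁻¹ * (a * a) * x * (x⁻¹ * (b * b) * x) = x⁻¹ * (a * a * (b * b)) * x by group, e,
      show x⁻¹ * (y * t * y⁻¹) * x = x⁻¹ * y * t * (x⁻¹ * y)⁻¹ by group] at h5
    simpa using mul_mem (h3 y (e ▸ mul_mem (mul_mem ha ha) (mul_mem hb hb))) (inv_mem (h3 _ (F.mem h5))))
    ⟨t, v, F.t1, F.v1, F.vt.symm, F.tt, F.vv, (F.cL F.vL).symm⟩ fun h => hs (Group.isSolvable_of_isSolvable_injective
      (inclusion_injective fun l hl => h3 l (by rw [(F.cL hl).eq, mul_inv_cancel_right]; exact F.tL)))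
  have h5 := (normalizer_eq_top_iff.1 h4).eq_bot_or_eq_top.resolve_right fun e =>
    F.t1 (eq_one_of_odd_sq ((hθ t).1 (e ▸ mem_top t)).2 F.tt)
  intro k hk
  obtain ⟨n, m, hm, e⟩ := Nat.exists_eq_two_pow_mul_odd (orderOf_pos k).ne'
  exact zpowers_le.2 F.zL (h2 k hk ⟨n, mem_bot.1 (h5 ▸ (hθ _).2 ⟨pow_mem hk _,
    odd_of_pow hm (by rw [← pow_mul, ← e, pow_orderOf_eq_one])⟩)⟩)

end Fr

end CfsgLib.ONStd
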