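import Mathlib
import Cfsg.Agent.Lib.ONStd.Gen

/-! Standard subgroups `4 · L₃(4)` read in the permutation models. -/

set_option autoImplicit false
set_option maxRecDepth 100000

namespace CfsgLib.ONStd

open Subgroup CfsgLib.Comput CfsgLib.Amalg CfsgLib.ONRec CfsgLib.LieModel.L34

/-- the product commutes with the generators -/
def cenE (l : List ℕ) : List (Bool × Eqn) := [(true, l ++ [1], 1 :: l), (true, l ++ [3], 3 :: l)]

/-- the commutator with `c` is neither trivial nor `v` -/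
def badE (c : ℕ) : List (Bool × Eqn) := [(false, [c, 0], [0, c]), (false, [c, 0], [0, 20, c])]

/-- `w` has order three and commutes with `r` -/
noncomputable def oddB (D : MD) (r w : ℕ) : Bool :=
  band (band (inA AM w) (D.chk ([w, w, w], []))) (band (Bool.rec true false (D.chk ([w], []))) (D.chk ([w, r], [r, w])))

/-- the tests of an extension -/
structure XC (D : MD) (od cands : List ℕ) (d : TD) : Prop extends TC D d where
  sq2 : impB D.st (idTab 448 9) (gsT ++ [(d.x, 2)]) (cenE [0, 0])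
    [[(true, [0, 0], [])], [(true, [0, 19, 0, 19], [])]] = true
  odd : allL (fun r => anyL (oddB D r) od) d.reps = true
  cand : impB D.st (idTab 448 9) (gsC ++ [(d.x, 2)]) (cenE [0, 0, 20])
    (badE 23 :: badE 24 :: cands.map fun w => [(true, [0], [w])]) = true

/-- the tests of a model -/
structure Pk (D : MD) (od cands : List ℕ) (ds : List TD) : Prop where
  C : MC D
  nd : NoDiag D
  ext : ∀ d ∈ ds, XC D od cands d
  all : ∀ s : Fin 4, ∃ d ∈ ds, s = 0 ∨ d.s = s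
  cen : impB D.st (idTab 448 9) gsC [(true, [0, 0], []), (true, [23, 0], [0, 23]), (true, [24, 0], [0, 24])]
    [[(true, [0], [])], [(true, [0], [0x1313])], [(true, [0], [20])], [(true, [0], [20, 0x1313])]] = true

section model
variable {D : MD} {od cands : List ℕ} {d : TD} {ds : List TD}

theorem sg_cen (C : MC D) {a : X} {l : List ℕ} (h : ∀ y ∈ D.M, Commute y (evV D.g a l)) :
    ∀ s ∈ cenE l, Sg D.g a s := by
  have key : ∀ w, w ≠ 0 → inA AM w = true → Sg D.g a (true, l ++ [w], w :: l) := fun w h0 hw =>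
    iff_of_true (by simpa [evV, h0] using (h _ (C.mem hw)).symm.eq) rfl
  simp only [cenE, List.forall_mem_cons]
  exact ⟨key 1 (by norm_num) (by decide +kernel), key 3 (by norm_num) (by decide +kernel), by simp⟩

theorem comm_t (C : MC D) {a : X} (h : a ∈ D.M) : Commute a D.t := MC.t_eq ▸ (C.comm_z h).mul_right (C.comm_z h)

theorem aut_eq (C : MC D) {τ τ' : MulAut D.M} (h : ∀ y, C.σ (τ y) = C.σ (τ' y)) (y : D.M) : τ y = τ' y :=
  have := C.cov.perf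
  DFunLike.congr_fun (Schur.lift_unique_of_perfect C.cov.le τ.toMonoidHom τ'.toMonoidHom (MonoidHom.ext h)) y

theorem Pk.aut (P : Pk D od cands ds) (τ : MulAut D.M) :
    ∃ d ∈ ds, ∃ a ∈ D.H d.x, ∀ y : D.M, (τ y : X) = a * y * a⁻¹ := by
  have C := P.C
  obtain ⟨s, m, h⟩ := C.aut P.nd τ
  obtain ⟨d, hd, rfl | rfl⟩ := P.all s
  · refine ⟨d, hd, m, mem_sup_left m.2, fun y => congrArg Subtype.val (aut_eq C (τ' := MulAut.conj m) (fun y => ?_) y)⟩
    have := h y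
    rw [al_zero, map_mul, map_mul, map_inv, MulAut.one_apply] at this
    simp [← this, mul_assoc]
  · have T := (P.ext d hd).toTC
    obtain ⟨α, h1, h2, h3⟩ := T.exists_al C
    obtain rfl : α = alS d.s := aut_ext (h2.trans (exists_alS d.s).choose_spec.1.symm)
      (h3.trans (exists_alS d.s).choose_spec.2.1.symm)
    refine ⟨d, hd, m * ev D.g d.x, mul_mem (mem_sup_left m.2) (mem_sup_right (mem_zpowers _)), fun y => ?_⟩
    have := congrArg Subtype.val (aut_eq C (τ := MulAut.conj m⁻¹ * τ) (τ' := cj D.M _ (T.nrmM C).conj)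
      (fun y => by simpa [← h1] using h y) y)
    rw [coe_cj] at this
    rw [show ∀ a b c : X, a * b * c * (a * b)⁻¹ = a * (b * c * b⁻¹) * a⁻¹ from fun _ _ _ => by group, ← this]
    simp [mul_assoc]

theorem red (C : MC D) (T : TC D d) {a y : X} (ha : a ∈ D.H d.x) (h : a ∉ D.M) (hy : y ∈ D.H d.x) :
    y ∈ D.M ∨ y * a⁻¹ ∈ D.M := ((T.nrmM C).mem.1 hy).imp_right fun h1 => by
  simpa [mul_assoc] using mul_mem h1 (inv_mem (((T.nrmM C).mem.1 ha).resolve_left h))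

theorem XC.fixsq (C : MC D) (T : XC D od cands d) {a : X} (ha : a ∈ D.H d.x) (h : ∀ y ∈ D.M, Commute y (a * a)) :
    ∃ u ∈ D.M, (∀ y ∈ D.M, Commute y u) ∧ a * u * (a * u) = 1 := by
  have n := T.nrmM C
  obtain ⟨i, -, e⟩ := C.mem_center (n.sq_mem ha) h
  obtain ⟨l, hl, h1⟩ := exists_conj_mem (L := D.H d.x) (S := D.S d.x) (sup_le_sup_right C.T_le _) (T.card_S C)
    (by rw [T.card_H C]; norm_num) ha (e := 3) (by
      rw [show 2 ^ 3 = 2 * 4 by norm_num, pow_mul, pow_two, e, ← pow_mul, mul_comm, pow_mul, C.z_four, one_pow])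
  obtain ⟨c, hc, h2⟩ := impB_sound C.mod T.sq2 ((T.nrmT C).mem_NF (fun _ => mem_NF C.mod.holds C.pcT) h1)
    (sg_cen C fun y hy => by
      simpa [evV, mul_assoc] using (h _ (n.conj_mem (inv_mem hl) hy)).map (MulAut.conj l))
  simp only [List.mem_cons, List.not_mem_nil, or_false] at hc
  rcases hc with rfl | rfl
  · refine ⟨1, one_mem _, fun _ _ => Commute.one_right _, (MulAut.conj l).injective ?_⟩
    simpa [Sg, evV, mul_assoc] using h2 _ List.mem_cons_self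
  · refine ⟨l⁻¹ * ev D.g 19 * l⁻¹⁻¹, n.conj_mem (inv_mem hl) C.z_mem, fun y hy => by
      simpa [mul_assoc] using (C.comm_z (n.conj_mem hl hy)).map (MulAut.conj l⁻¹), (MulAut.conj l).injective ?_⟩
    simpa [Sg, evV, mul_assoc] using h2 _ List.mem_cons_self

theorem invM' (C : MC D) (T : TC D d) {a : X} (ha : a ∈ D.M) (h : a * a = 1) (h1 : a ≠ 1) (h2 : a ≠ D.t) :
    ∃ c ∈ D.M, c * D.v * c⁻¹ = a := by
  obtain ⟨c, hc, rfl⟩ := T.invM C ha h h1 h2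
  refine ((T.nrmM C).mem.1 hc).elim (fun h => ⟨c, h, rfl⟩) fun h => ⟨_, h, ?_⟩
  rw [mul_assoc c, (show Commute _ D.v from Mod.eq2 C.mod T.xv).inv_left.eq]; group

theorem Pk.cen' (P : Pk D od cands ds) {a : X} (ha : a ∈ D.M) (h : a * a = 1) (h1 : a ≠ 1) (h2 : a ≠ D.t)
    (hc : ∀ c ∈ D.M, Commute c a → Commute c D.v) : a = D.v ∨ a = D.v * D.t := by
  have C := P.C
  obtain ⟨d, hd, -⟩ := P.all 0
  have T := (P.ext d hd).toTC
  have e := (T.C_eq C).1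
  have hC : ∀ {c}, c ∈ D.C ↔ c ∈ D.M ∧ Commute c D.v := by
    intro c; rw [e, mem_inf, mem_centralizer_singleton_iff]; rfl
  obtain ⟨c, c1, rfl⟩ := invM' C T ha h h1 h2
  have h3 : StdInt.cj c D.C = D.C := eq_of_le_of_card_ge (fun y hy =>
    have a1 := hC.1 (StdInt.mem_cj.1 hy)
    have a2 : y ∈ D.M := by simpa [mul_assoc] using mul_mem (mul_mem c1 a1.1) (inv_mem c1)
    hC.2 ⟨a2, hc y a2 (StdInt.comm_conj.2 a1.2)⟩) (card_map_of_injective (MulAut.conj c).injective).ge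
  have h4 : ∀ w ∈ gsC.map Prod.fst, Commute (ev D.g w) (c * D.v * c⁻¹) := fun w hw =>
    StdInt.comm_conj.2 (hC.1 (StdInt.mem_cj.1 (h3.ge (ev_mem_cl _ hw)))).2
  obtain ⟨l, hl, h5⟩ := impB_sound C.mod P.cen (mem_NF C.mod.holds C.pcC (hC.2 ⟨ha, hc _ ha rfl⟩)) (by
    simp only [List.forall_mem_cons]
    exact ⟨iff_of_true (by simpa [evV] using h) rfl, iff_of_true (by simpa [evV] using (h4 23 (by decide)).eq) rfl,
      iff_of_true (by simpa [evV] using (h4 24 (by decide)).eq) rfl, by simp⟩)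
  generalize c * D.v * c⁻¹ = a at *
  simp only [List.mem_cons, List.not_mem_nil, or_false] at hl
  rcases hl with rfl | rfl | rfl | rfl <;> have h6 := h5 _ List.mem_cons_self <;> simp [Sg, evV] at h6
  exacts [absurd h6 h1, absurd h6 h2, Or.inl h6, Or.inr h6]

end model

variable {G : Type*} [Group G]

theorem pmul {Γ : Subgroup (X × G)} {a b : X} {h k : G} (h1 : (a, h) ∈ Γ) (h2 : (b, k) ∈ Γ) : (a * b, h * k) ∈ Γ :=
  mul_mem h1 h2

theorem pinv {Γ : Subgroup (X × G)} {a : X} {h : G} (h1 : (a, h) ∈ Γ) : (a⁻¹, h⁻¹) ∈ Γ := inv_mem h1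

theorem ppow {Γ : Subgroup (X × G)} {a : X} {h : G} (h1 : (a, h) ∈ Γ) (n : ℕ) : (a ^ n, h ^ n) ∈ Γ := pow_mem h1 n

/-- the pairs that act in the same way -/
abbrev Nm (Λ : Subgroup (X × G)) : Subgroup (X × G) := normalizer (Λ : Set (X × G))

/-- the standard subgroup `L` is identified with the model -/
structure Emb (D : MD) (ds : List TD) (Λ : Subgroup (X × G)) (L : Subgroup G) : Prop where
  graph : Graph Λ
  dom : ∀ a ∈ D.M, ∃ u, (a, u) ∈ Λ
  cod : ∀ u ∈ L, ∃ a, (a, u) ∈ Λ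
  mem : ∀ {a u}, (a, u) ∈ Λ → a ∈ D.M ∧ u ∈ L
  std : Cfsg.IsStandardSubgroup L
  act : ∀ h ∈ normalizer (L : Set G), ∃ d ∈ ds, ∃ a ∈ D.H d.x, (a, h) ∈ Nm Λ

variable {D : MD} {od cands : List ℕ} {d : TD} {ds : List TD} {Λ : Subgroup (X × G)} {L : Subgroup G}

theorem exists_emb [Finite G] (P : Pk D od cands ds) (hL : Cfsg.IsStandardSubgroup L) (ψ : L ≃* D.M) : ∃ Λ, Emb D ds Λ L := by
  refine ⟨((D.M.subtype.comp ψ.toMonoidHom).prod L.subtype).range, ⟨fun a ⟨m, h⟩ => ?_, fun b ⟨m, h⟩ => ?_⟩,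
    fun a h => ⟨_, ψ.symm ⟨a, h⟩, Prod.ext (by simp) rfl⟩, fun u h => ⟨_, ⟨u, h⟩, rfl⟩,
    fun ⟨m, h⟩ => by cases h; exact ⟨(ψ m).2, m.2⟩, hL, fun h hh => ?_⟩
  · obtain rfl : m = 1 := Subtype.ext (congrArg Prod.snd h)
    exact (congrArg Prod.fst h).symm.trans (by simp)
  · obtain rfl : m = 1 := ψ.injective (Subtype.ext ((congrArg Prod.fst h).trans (by simp)))
    exact (congrArg Prod.snd h).symm.trans (by simp)
  · obtain ⟨d, hd, a, ha, e⟩ := P.aut (MulAut.congr ψ (StdInt.aut hh))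
    refine ⟨d, hd, a, ha, mem_normalizer_fintype ?_⟩
    rintro _ ⟨m, rfl⟩
    exact ⟨StdInt.aut hh m, Prod.ext (by simpa using e (ψ m)) (StdInt.aut_apply hh m)⟩

/-- the element that belongs to a word -/
noncomputable def el (D : MD) (Λ : Subgroup (X × G)) (w : ℕ) : G := Classical.epsilon fun u => (ev D.g w, u) ∈ Λ

namespace Emb
variable (E : Emb D ds Λ L)
include E

theorem el_mem (C : MC D) (w : ℕ) (h : inA AM w = true := by decide +kernel) : (ev D.g w, el D Λ w) ∈ Λ :=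
  Classical.epsilon_spec (E.dom _ (C.mem h))

omit E in
theorem cj {a y : X} {h l : G} (h1 : (a, h) ∈ Nm Λ) (h2 : (y, l) ∈ Λ) :
    (a * y * a⁻¹, h * l * h⁻¹) ∈ Λ := (mem_normalizer_iff.1 h1 (y, l)).1 h2

theorem conj_iff {a y y' : X} {h l l' : G} (h1 : (a, h) ∈ Nm Λ) (h2 : (y, l) ∈ Λ)
    (h3 : (y', l') ∈ Λ) : a * y * a⁻¹ = y' ↔ h * l * h⁻¹ = l' :=
  ⟨fun e => E.graph.snd_eq (cj h1 h2) (e ▸ h3), fun e => E.graph.fst_eq (cj h1 h2) (e ▸ h3)⟩

theorem comm_iff {a y : X} {h l : G} (h1 : (a, h) ∈ Nm Λ) (h2 : (y, l) ∈ Λ) :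
    Commute a y ↔ Commute h l :=
  mul_inv_eq_iff_eq_mul.symm.trans ((E.conj_iff h1 h2 h2).trans mul_inv_eq_iff_eq_mul)

theorem mem_K {a : X} {h : G} (h1 : (a, h) ∈ Nm Λ) :
    h ∈ centralizer (L : Set G) ↔ ∀ y ∈ D.M, Commute y a :=
  ⟨fun e y hy => let ⟨l, hl⟩ := E.dom y hy; ((E.comm_iff h1 hl).2 (e l (E.mem hl).2).symm).symm,
    fun e l hl => let ⟨y, hy⟩ := E.cod l hl; ((E.comm_iff h1 hy).1 (e y (E.mem hy).1).symm).symm⟩

theorem one_mem' {u : X} (h : ∀ y ∈ D.M, Commute y u) : (u, 1) ∈ Nm Λ :=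
  centralizer_le_normalizer _ fun p hp => Prod.ext (h _ (E.mem (a := p.1) (u := p.2) hp).1) (by simp)

theorem inn {a : X} {h : G} (h1 : (a, h) ∈ Nm Λ) (ha : a ∈ D.M) :
    Inn L (centralizer (L : Set G)) h :=
  let ⟨l, hl⟩ := E.dom a ha
  ⟨l, (E.mem hl).2, l⁻¹ * h, (E.mem_K (pmul (pinv (le_normalizer hl)) h1)).2 fun y _ => by simp, by simp⟩

/-- an outer involution acts as one of the representatives -/
theorem rep (C : MC D) (T : XC D od cands d) {a : X} {h : G} (h1 : (a, h) ∈ Nm Λ)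
    (ha : a ∈ D.H d.x) (h2 : a ∉ D.M) (h3 : h * h = 1) : ∃ r ∈ d.reps, ev D.g r * ev D.g r = 1 ∧
      ∃ l ∈ L, (ev D.g r, l * h * l⁻¹) ∈ Nm Λ := by
  obtain ⟨u, u1, u2, u3⟩ := T.fixsq C ha ((E.mem_K (pmul h1 h1)).1 (by rw [h3]; exact one_mem _))
  have h4 : (a * u, h) ∈ Nm Λ := by simpa using pmul h1 (E.one_mem' u2)
  have h5 : a * u ∉ D.M := by rwa [mul_mem_cancel_right u1]
  have h6 := mul_mem ha (mem_sup_left u1)
  generalize a * u = b at *
  rcases T.invH C h6 u3 with rfl | rfl | ⟨c, hc, rfl⟩ | ⟨r, hr, c, hc, rfl⟩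
  · exact absurd (one_mem _) h5
  · exact absurd C.t_mem h5
  · exact absurd ((T.nrmM C).conj_mem hc C.v_mem) h5
  · refine ⟨r, hr, by rwa [conj_mul, conj_eq_one_iff] at u3, ?_⟩
    obtain ⟨m, m1, e⟩ : ∃ m ∈ D.M, m * (c * ev D.g r * c⁻¹) * m⁻¹ = ev D.g r :=
      (red C T.toTC h6 h5 (inv_mem hc)).elim (fun h => ⟨_, h, by group⟩) fun h => ⟨_, h, by group⟩
    obtain ⟨l, hl⟩ := E.dom m m1
    exact ⟨l, (E.mem hl).2, e ▸ pmul (pmul (le_normalizer hl) h4) (pinv (le_normalizer hl))⟩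

theorem out (C : MC D) (T : XC D od cands d) {r : ℕ} (hr : r ∈ d.reps) (r2 : ev D.g r * ev D.g r = 1) {h : G}
    (h1 : (ev D.g r, h) ∈ Nm Λ) : (∃ w ∈ L, w ^ 3 = 1 ∧ w ≠ 1 ∧ Commute w h) ∧
    ∃ a ∈ L, ∃ b ∈ L, ∃ q, Commute a h ∧ Commute b h ∧ a * a * (b * b) = q ∧ q * q = 1 ∧ q ≠ 1 ∧
      (q = el D Λ 0x1313 ∨ ∃ c, c * h * c⁻¹ = h * q) := by
  have gr := E.graph
  constructor
  · obtain ⟨w, -, h2⟩ := anyL_sound (allL_sound T.odd r hr)
    simp only [oddB, band_eq_true] at h2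
    have h3 := E.el_mem C w h2.1.1
    have h4 := C.mod.eq h2.1.2
    have h5 := C.mod.ne (l := [w]) (l' := []) (Bool.eq_false_iff.2 fun e => by
      rw [show D.chk ([w], []) = true from e] at h2; exact absurd h2.2.1 (by simp))
    rw [show [w, w, w] = List.replicate 3 w from rfl, evL_replicate, evL_nil] at h4
    rw [evL_one] at h5
    exact ⟨_, (E.mem h3).2, gr.snd _ (h4 ▸ ppow h3 3), fun e => h5 (gr.fst _ (e ▸ h3)),
      ((E.comm_iff h1 h3).1 (Mod.eq2 C.mod h2.2.2).symm).symm⟩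
  obtain ⟨a1, a2⟩ := band_eq_true.1 (allL_sound T.fus r hr)
  obtain ⟨⟨y1, y2, q, c⟩, -, a3⟩ := anyL_sound a2
  simp only [MD.fusB, band_eq_true] at a3
  obtain ⟨b1, b2, b3, b4⟩ := a3
  have m0 := fun w hw => ev_mem (TC.inAH C d.x) (allL_sound b1 w hw)
  have e0 := fun e he => C.mod.holds e (allL_sound b2 e he)
  have rd := fun w hw => red C T.toTC (m0 r (by simp)) (C.out_not_mem a1) (m0 w hw)
  have key : ∀ y ∈ [r, y1, y2, c], Commute (ev D.g y) (ev D.g r) →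
      ∃ l ∈ L, Commute l h ∧ (ev D.g y * ev D.g y, l * l) ∈ Λ := fun y hy e => by
    rcases rd y hy with m | m <;> obtain ⟨l, hl⟩ := E.dom _ m
    · exact ⟨l, (E.mem hl).2, ((E.comm_iff h1 hl).1 e.symm).symm, pmul hl hl⟩
    · refine ⟨l, (E.mem hl).2, ((E.comm_iff h1 hl).1 (e.symm.mul_right (Commute.refl _).inv_right)).symm, ?_⟩
      have := pmul hl hl
      rwa [e.inv_right.symm.mul_mul_mul_comm, ← mul_inv_rev, r2, inv_one, mul_one] at this
  obtain ⟨a, k1, k2, k3⟩ := key y1 (by simp) (Mod.eq2 C.mod (allL_sound b2 _ (by simp)))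
  obtain ⟨b, k4, k5, k6⟩ := key y2 (by simp) (Mod.eq2 C.mod (allL_sound b2 _ (by simp)))
  have e1 : ev D.g y1 * ev D.g y1 * (ev D.g y2 * ev D.g y2) = ev D.g q := by
    simpa [Eqn.Holds, evL_cons, evL_nil, mul_assoc] using e0 ([y1, y1, y2, y2], [q]) (by simp)
  have e2 : ev D.g q * ev D.g q = 1 := by simpa [Eqn.Holds, evL_cons, evL_nil] using e0 ([q, q], []) (by simp)
  have e3 : ev D.g q ≠ 1 := by
    have := C.mod.ne (l := [q]) (l' := []) (Bool.eq_false_iff.2 fun e => by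
      rw [show D.chk ([q], []) = true from e] at b3; exact absurd b3 (by simp))
    rwa [evL_one] at this
  have k7 : (ev D.g q, a * a * (b * b)) ∈ Λ := e1 ▸ pmul k3 k6
  refine ⟨a, k1, b, k4, _, k2, k5, rfl, gr.snd _ (e2 ▸ pmul k7 k7), fun e => e3 (gr.fst _ (e ▸ k7)), ?_⟩
  cases b5 : D.chk ([c, r], [r, q, c])
  · rw [b5] at b4
    have e4 := C.mod.eq b4
    rw [evL_one, evL_one] at e4
    exact Or.inl (gr.snd_eq (e4 ▸ k7) (E.el_mem C _))
  · have e4 := C.mod.eq b5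
    rw [evL_two, evL_three, ← mul_inv_eq_iff_eq_mul] at e4
    obtain ⟨m, m1, e⟩ : ∃ m ∈ D.M, m * ev D.g r * m⁻¹ = ev D.g r * ev D.g q :=
      (rd c (by simp)).elim (fun h => ⟨_, h, e4⟩) fun h => ⟨_, h, by rw [← e4]; group⟩
    obtain ⟨l, hl⟩ := E.dom m m1
    have := (E.conj_iff (pinv h1) hl (pmul k7 hl)).1 (by
      rw [show ev D.g q = (ev D.g r)⁻¹ * (m * ev D.g r * m⁻¹) by rw [e]; group]; simp [mul_assoc])
    exact Or.inr ⟨l, by rw [show a * a * (b * b) = h⁻¹ * l * h⁻¹⁻¹ * l⁻¹ from eq_mul_inv_of_mul_eq this.symm]; group⟩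

theorem act' (C : MC D) {h : G} [Finite G] (hh : Commute h (el D Λ 0x1313)) :
    ∃ d ∈ ds, ∃ a ∈ D.H d.x, (a, h) ∈ Nm Λ :=
  have ht : (D.t, _) ∈ Λ := E.el_mem C 0x1313
  E.act h (StdInt.norm_of_even E.std ((E.mem_K (le_normalizer ht)).2 fun _ hy =>
    comm_t C hy) (E.graph.snd _ (C.tt ▸ pmul ht ht))
      (fun e => C.t_ne (E.graph.fst _ (e ▸ ht))) hh)

theorem fr [Finite G] (P : Pk D od cands ds) :
    Fr L (centralizer (L : Set G)) (el D Λ 19) (el D Λ 0x1313) (el D Λ 20) := by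
  have C := P.C
  have gr := E.graph
  have hz := E.el_mem C 19
  have ht : (D.t, _) ∈ Λ := E.el_mem C 0x1313
  have hv : (D.v, _) ∈ Λ := E.el_mem C 20
  have zK := (E.mem_K (le_normalizer hz)).2 fun _ => C.comm_z
  have tK := (E.mem_K (le_normalizer ht)).2 fun _ hy => comm_t C hy
  have tt : el D Λ 0x1313 * el D Λ 0x1313 = 1 := gr.snd _ (C.tt ▸ pmul ht ht)
  have t1 : el D Λ 0x1313 ≠ 1 := fun e => C.t_ne (gr.fst _ (e ▸ ht))
  have hN := fun h => StdInt.norm_of_even (c := h) E.std tK tt t1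
  have hN' : ∀ h ∈ normalizer (L : Set G), Commute h (el D Λ 0x1313) := fun h hh =>
    let ⟨d, hd, _, ha, e⟩ := E.act h hh
    (E.comm_iff e ht).1 ((P.ext d hd).comm_t C ha)
  obtain ⟨d, hd, -⟩ := P.all 0
  have T := P.ext d hd
  have inv : ∀ {y l}, (y, l) ∈ Λ → l * l = 1 → l ≠ 1 → l ≠ el D Λ 0x1313 → y * y = 1 ∧ y ≠ 1 ∧ y ≠ D.t :=
    fun h h1 h2 h3 => ⟨gr.fst _ (h1 ▸ pmul h h), fun e => h2 (gr.snd _ (e ▸ h)), fun e => h3 (gr.snd_eq (e ▸ h) ht)⟩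
  refine ⟨gr.snd_eq (pmul hz hz) (MC.t_eq ▸ ht), tt, t1, (E.mem hz).2, zK, (E.mem hv).2,
    gr.snd _ (C.v_sq ▸ pmul hv hv), fun e => C.v_ne (gr.fst _ (e ▸ hv)), fun e => C.v_ne_t (gr.fst_eq hv (e ▸ ht)),
    fun l hl k hk => hk l hl, fun x hx hk => ?_, fun h hh l => (mem_normalizer_iff.1 (hN h hh) l).1,
    fun h hh k => (mem_normalizer_iff.1 (E.std.2.2.2 ▸ hN h hh) k).1,
    fun r r0 r2 r1 c hc => hN' c (StdInt.norm_of_even E.std r0 r2 r1 hc), fun g hg x h1 h2 => StdInt.odd_of_mem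
      (E.std.2.1.2 g fun e => hg (hN' g (E.std.2.2.2 ▸ e))) ⟨h1, StdInt.mem_cj.2 h2⟩,
    fun h hh => ?_, fun l hl h => ?_, fun l hl h1 h2 h3 => ?_, fun l hl h => ?_, fun l hl h1 h2 h3 h4 => ?_,
    fun h hh h2 h3 => ?_⟩
  · obtain ⟨y, hy⟩ := E.cod x hx
    obtain ⟨i, -, rfl⟩ := C.mem_center (E.mem hy).1 ((E.mem_K (le_normalizer hy)).1 hk)
    exact gr.snd_eq (ppow hz i) hy ▸ pow_mem (mem_zpowers _) i
  · obtain ⟨d, hd, a, ha, e⟩ := E.act' C hh
    exact E.inn (pmul e e) (((P.ext d hd).nrmM C).sq_mem ha)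
  · obtain ⟨y, hy⟩ := E.cod l hl
    obtain ⟨u, u1, u2, u3⟩ := T.fixsq C (mem_sup_left (E.mem hy).1) ((E.mem_K (le_normalizer (pmul hy hy))).1 h)
    obtain ⟨k, hk⟩ := E.dom u u1
    exact ⟨k, (E.mem hk).2, (E.mem_K (le_normalizer hk)).2 u2, gr.snd _ (u3 ▸ pmul (pmul hy hk) (pmul hy hk))⟩
  · obtain ⟨y, hy⟩ := E.cod l hl
    obtain ⟨a1, a2, a3⟩ := inv hy h1 h2 h3
    obtain ⟨c, hc, rfl⟩ := invM' C T.toTC (E.mem hy).1 a1 a2 a3
    obtain ⟨k, hk⟩ := E.dom c hc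
    exact ⟨k, (E.mem hk).2, gr.snd_eq (cj (le_normalizer hk) hv) hy⟩
  · obtain ⟨y, hy⟩ := E.cod l hl
    have h1 : y ∈ D.C := (T.C_eq C).1 ▸ ⟨(E.mem hy).1, mem_centralizer_singleton_iff.2 ((gr.commute_iff hy hv).2 h)⟩
    have h2 : y ^ Nat.card D.C = 1 := congrArg Subtype.val (pow_card_eq_one' (x := (⟨y, h1⟩ : D.C)))
    exact gr.snd _ (h2 ▸ (T.C_eq C).2.2 ▸ ppow hy _)
  · obtain ⟨y, hy⟩ := E.cod l hl
    obtain ⟨a1, a2, a3⟩ := inv hy h1 h2 h3
    rcases P.cen' (E.mem hy).1 a1 a2 a3 fun c hc e =>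
      let ⟨k, hk⟩ := E.dom c hc
      (gr.commute_iff hk hv).2 (h4 k (E.mem hk).2 ((gr.commute_iff hk hy).1 e)) with rfl | rfl
    exacts [Or.inl (gr.snd_eq hy hv), Or.inr (gr.snd_eq hy (pmul hv ht))]
  · obtain ⟨d, hd, a, ha, e⟩ := E.act' C hh
    obtain ⟨r, hr, r2, l, hl, e'⟩ := E.rep C (P.ext d hd) e ha (fun h => h3 (E.inn e h)) h2
    obtain ⟨⟨w, w1, w2, w3, w4⟩, a, a1, b, b1, q, a2, b2, q1, q2, q3, q4⟩ := E.out C (P.ext d hd) hr r2 e'
    have m := fun x hx => mul_mem (mul_mem (inv_mem hl) hx) (inv_mem (inv_mem hl)) (a := l⁻¹ * x)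
    refine ⟨⟨_, m w w1, by rw [conj_pow, w2]; simp, fun e => w3 (conj_eq_one_iff.1 e), by
      simpa using StdInt.comm_conj.1 w4⟩, _, m a a1, _, m b b1, l⁻¹ * q * l⁻¹⁻¹, by simpa using StdInt.comm_conj.1 a2,
      by simpa using StdInt.comm_conj.1 b2, by simp only [conj_mul, q1], conj_sq _ q2,
      fun e => q3 (conj_eq_one_iff.1 e), q4.imp (fun e => ?_) fun ⟨c, e⟩ => ⟨l⁻¹ * c * l, ?_⟩⟩
    · rw [e, show l⁻¹ * _ = _ * l⁻¹ from tK _ (inv_mem hl), mul_inv_cancel_right]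
    · rw [show q = (l * h * l⁻¹)⁻¹ * (c * (l * h * l⁻¹) * c⁻¹) by rw [e]; group]; group

theorem cand (C : MC D) (T : XC D od cands d) {a : X} {h : G} (h1 : (a, h) ∈ Nm Λ)
    (ha : a ∈ D.H d.x) (h2 : h * h = el D Λ 20)
    (h3 : ∀ c, Commute c (el D Λ 20) → c * h * c⁻¹ = h ∨ c * h * c⁻¹ = h * el D Λ 20) :
    ∃ w ∈ cands, w ≠ 0 → a = ev D.g w := by
  have hv : (D.v, _) ∈ Λ := E.el_mem C 20
  have key : ∀ w ∈ gsC.map Prod.fst, ¬ ∀ s ∈ badE w, Sg D.g a s := fun w hw h4 => by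
    have a1 : ev D.g w ∈ D.C := ev_mem_cl _ hw
    have w0 : w ≠ 0 := by rintro rfl; exact absurd hw (by decide)
    obtain ⟨c, hc⟩ := E.dom _ (C.C_le a1)
    simp only [badE, List.forall_mem_cons] at h4
    rcases h3 c ((E.graph.commute_iff hc hv).1 (commB_sound C.mod.holds C.cv a1)) with e | e
    · simpa [Sg, evV, w0, ((E.comm_iff h1 hc).2 (mul_inv_eq_iff_eq_mul.1 e).symm).eq] using h4.1
    · have := (E.conj_iff (pinv h1) hc (pmul hv hc)).2 (by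
        rw [show el D Λ 20 = h⁻¹ * (c * h * c⁻¹) by rw [e]; group]; simp [mul_assoc])
      simpa [Sg, evV, w0, show ev D.g 20 * ev D.g w = a⁻¹ * ev D.g w * a by simpa using this.symm, mul_assoc]
        using h4.2.1
  obtain ⟨l, hl, h4⟩ := impB_sound C.mod T.cand (T.K_NF C ((T.mem_K C).2 ⟨ha, (E.comm_iff h1 hv).2
    (h2 ▸ (Commute.refl h).mul_right rfl)⟩)) (sg_cen C (by
      simpa [evV, mul_assoc] using (E.mem_K (pmul (pmul h1 h1) (le_normalizer hv))).1 (by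
        rw [h2, E.graph.snd (_ * _) (C.v_sq ▸ pmul hv hv)]
        exact one_mem _)))
  simp only [List.mem_cons, List.mem_map] at hl
  rcases hl with rfl | rfl | ⟨w, hw, rfl⟩
  · exact absurd h4 (key 23 (by decide))
  · exact absurd h4 (key 24 (by decide))
  · exact ⟨w, hw, fun w0 => by simpa [Sg, evV, w0] using h4 _ List.mem_cons_self⟩

end Emb

end CfsgLib.ONStd
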