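import Mathlib
import Cfsg.Agent.Lib.ONStd.Emb

/-! The tests in the two models. -/

set_option autoImplicit false
set_option maxRecDepth 100000
set_option Elab.async false

namespace CfsgLib.ONStd

open CfsgLib.Comput CfsgLib.Amalg CfsgLib.ONRec

/-- elements of order three -/
def od1 : List ℕ := [0xf1a, 0x607, 0xb17131313, 0xa181313]

/-- elements of order three -/
def od2 : List ℕ := [0xf1a1313, 0x607, 27, 0xb1713]

/-- the candidates -/
def cd2 : List ℕ := [22, 0x1613, 0x161313, 0x16131313, 0x1614, 0x161413, 0x16141313, 0x1614131313]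

theorem x10 : XC D1.D od1 [] D1.d0 := ⟨D1.T0, by decide +kernel, by decide +kernel, by decide +kernel⟩

theorem x12 : XC D1.D od1 [] D1.d2 := ⟨D1.T2, by decide +kernel, by decide +kernel, by decide +kernel⟩

theorem x14 : XC D1.D od1 [] D1.d4 := ⟨D1.T4, by decide +kernel, by decide +kernel, by decide +kernel⟩

theorem x20 : XC D2.D od2 cd2 D2.d0 := ⟨D2.T0, by decide +kernel, by decide +kernel, by decide +kernel⟩

theorem x22 : XC D2.D od2 cd2 D2.d2 := ⟨D2.T2, by decide +kernel, by decide +kernel, by decide +kernel⟩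

theorem x24 : XC D2.D od2 cd2 D2.d4 := ⟨D2.T4, by decide +kernel, by decide +kernel, by decide +kernel⟩

theorem pk1 : Pk D1.D od1 [] [D1.d0, D1.d2, D1.d4] :=
  ⟨D1.C, by unfold NoDiag; decide +kernel, by simp only [List.forall_mem_cons]; exact ⟨x10, x12, x14, by simp⟩,
    by decide +kernel, by decide +kernel⟩

theorem pk2 : Pk D2.D od2 cd2 [D2.d0, D2.d2, D2.d4] :=
  ⟨D2.C, by unfold NoDiag; decide +kernel, by simp only [List.forall_mem_cons]; exact ⟨x20, x22, x24, by simp⟩,
    by decide +kernel, by decide +kernel⟩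

/-- commutators that have a power equal to the central involution -/
def l8 : List (ℕ × ℕ) := [(19, 0x1313), (24, 0x1513), (24, 0x15131313), (24, 0x151413), (24, 0x1514131313)]

theorem l8_ok : ∀ e ∈ l8, e.1 ≠ 0 ∧ e.2 ≠ 0 ∧ inA AM e.1 = true ∧ D2.D.chk ([e.1, 20], [20, e.1]) = true ∧
    (D2.D.chk ([e.2], [0x1313]) = true ∨ D2.D.chk ([e.2, e.2], [0x1313]) = true) := by decide +kernel

theorem no8 : ∀ d ∈ [D2.d0, D2.d2, D2.d4], impB D2.D.st (idTab 448 9) (gsC ++ [(d.x, 2)]) (cenE [0, 0, 0, 0, 20])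
    (l8.map fun e => [(true, [e.1, 0], [e.2, 0, e.1])]) = true := by decide +kernel

/-- the roots of `v` and their conjugates -/
def c4 : List (ℕ × ℕ) := [(22, 0x1615131313), (0x161313, 0x161513), (0x1614, 0x16151413), (0x16141313, 0x161514131313)]

theorem cd2_ok : ∀ w ∈ cd2, w ≠ 0 ∧ inA AM w = true ∧ (D2.D.chk ([w, w], [20]) = true → ∃ e ∈ c4, e.1 = w ∧ e.2 ≠ 0 ∧
    D2.D.chk ([24, w], [w, 20, 24]) = true ∧ D2.D.chk ([32, w], [w, 20, 32]) = true ∧
    D2.D.chk ([25, w], [e.2, 25]) = true ∧ D2.D.chk ([32, e.2], [e.2, 20, 0x1313, 32]) = true) := by decide +kernel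

/-- an element that inverts the three roots is an involution -/
noncomputable def rtB (x : ℕ) : Bool :=
  allL (fun e : ℕ × ℕ => impB D2.D.st (idTab 448 9) (gsC ++ [(x, 2)]) [(true, [0, 19], [19, 0x1313, 0]),
    (true, [0, e.1], [e.1, 20, 0]), (true, [0, e.2], [e.2, 20, 0x1313, 0])] [[(true, [0, 0], [])]]) c4

theorem rt28 : rtB 28 = true := by decide +kernel

theorem rt30 : rtB 30 = true := by decide +kernel

theorem rt32 : rtB 32 = true := by decide +kernel

end CfsgLib.ONStd
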