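import Mathlib
import Cfsg.Agent.Lib.Transfer.Thompson
import Cfsg.Agent.Lib.StdInt.Main
import Cfsg.Agent.Lib.ONStd.Data

/-! A simple group with a standard subgroup `4 · L₃(4)` is the O'Nan group. -/

set_option autoImplicit false
set_option maxRecDepth 100000

namespace CfsgLib.ONStd

open Subgroup CfsgLib.Comput CfsgLib.Amalg CfsgLib.ONRec

variable {G : Type*} [Group G] {Λ : Subgroup (X × G)} {L : Subgroup G}

theorem e3 (a b c d e : ℕ) (h : D2.D.chk ([a, b], [c, d, e]) = true := by decide +kernel) :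
    E a * E b = E c * E d * E e := by simpa only [evL_two, evL_three] using eL _ _ h

theorem flip {h a a' s : G} (c : Commute h s) (e : a' = a ∨ a' = a * s)
    (h1 : h * a' * h⁻¹ = a' * s) : h * a * h⁻¹ = a * s := by
  rcases e with rfl | rfl
  · exact h1
  · rw [← conj_mul, c.eq, mul_inv_cancel_right] at h1
    exact mul_right_cancel h1

/-- `h` acts as an outer element of the extension -/
def Ot (Λ : Subgroup (X × G)) (d : TD) (h : G) : Prop := ∃ a ∈ D2.D.H d.x, a ∉ D2.D.M ∧ (a, h) ∈ Nm Λ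

theorem Ot.inv {d : TD} {h : G} (a : Ot Λ d h) : Ot Λ d h⁻¹ :=
  let ⟨_, h1, h2, h3⟩ := a
  ⟨_, inv_mem h1, mt inv_mem_iff.1 h2, pinv h3⟩

namespace Emb
variable [Finite G] (B : Emb D2.D [D2.d0, D2.d2, D2.d4] Λ L)
include B

theorem h8 (r : G) (h1 : Commute r (el D2.D Λ 0x1313)) (h2 : Commute r (el D2.D Λ 20)) (h3 : r ^ 4 = el D2.D Λ 20) :
    ∃ c, Commute c (el D2.D Λ 20) ∧
      (c * r * c⁻¹ * r⁻¹ = el D2.D Λ 0x1313 ∨ (c * r * c⁻¹ * r⁻¹) ^ 2 = el D2.D Λ 0x1313) := by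
  have C := D2.C
  have hv : (D2.D.v, _) ∈ Λ := B.el_mem C 20
  obtain ⟨d, hd, a, ha, e⟩ := B.act' C h1
  have T := pk2.ext d hd
  obtain ⟨l, hl, h4⟩ := impB_sound C.mod (no8 d hd) (T.K_NF C ((T.mem_K C).2 ⟨ha, (B.comm_iff e hv).2 h2⟩))
    (sg_cen C (by
      simpa [evV, mul_assoc, pow_succ] using (B.mem_K (pmul (ppow e 4) (le_normalizer hv))).1 (by
        rw [h3, B.graph.snd (_ * _) (C.v_sq ▸ pmul hv hv)]
        exact one_mem _)))
  obtain ⟨⟨c, n⟩, hn, rfl⟩ := List.mem_map.1 hl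
  obtain ⟨c0, n0, a1, a2, a3⟩ := l8_ok _ hn
  have h5 := h4 _ List.mem_cons_self
  simp only [Sg, evV_cons _ _ c0, evV_cons _ _ n0, evV_zero, evV_nil, mul_one, iff_true] at h5
  have hc := B.el_mem C c a1
  have h6 := pmul hc (cj e (pinv hc))
  rw [← mul_assoc, ← mul_assoc, h5, ← mul_assoc, ← mul_assoc, ← mul_assoc, mul_inv_cancel_right,
    mul_inv_cancel_right] at h6
  refine ⟨_, (B.graph.commute_iff hc hv).1 (Mod.eq2 C.mod a2), a3.imp (fun e => ?_) fun e => ?_⟩ <;>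
    have h7 := C.mod.eq e
  · rw [evL_one, evL_one] at h7
    exact B.graph.snd_eq (h7 ▸ h6) (B.el_mem C _)
  · rw [evL_two, evL_one] at h7
    exact pow_two (_ : G) ▸ B.graph.snd_eq (h7 ▸ pmul h6 h6) (B.el_mem C _)

variable (hK : centralizer (L : Set G) ≤ L)
include hK

omit [Finite G] in
theorem memL {a : X} {h : G} (h1 : (a, h) ∈ Nm Λ) (ha : a ∈ D2.D.M) : h ∈ L := by
  obtain ⟨l, hl, k, hk, rfl⟩ := B.inn h1 ha
  exact mul_mem hl (hK hk)

theorem types {h : G} (hh : Commute h (el D2.D Λ 0x1313)) :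
    h ∈ L ∨ Ot Λ D2.d0 h ∨ Ot Λ D2.d2 h ∨ Ot Λ D2.d4 h := by
  obtain ⟨d, hd, a, ha, e⟩ := B.act' D2.C hh
  by_cases h1 : a ∈ D2.D.M
  · exact Or.inl (B.memL hK e h1)
  simp only [List.mem_cons, List.not_mem_nil, or_false] at hd
  rcases hd with rfl | rfl | rfl
  exacts [.inr (.inl ⟨a, ha, h1, e⟩), .inr (.inr (.inl ⟨a, ha, h1, e⟩)), .inr (.inr (.inr ⟨a, ha, h1, e⟩))]

omit [Finite G]

theorem div {d : TD} (T : TC D2.D d) {h k : G} (h1 : Ot Λ d h) (h2 : Ot Λ d k) : h * k⁻¹ ∈ L := by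
  obtain ⟨a, a1, a2, a3⟩ := h1
  obtain ⟨b, b1, b2, b3⟩ := h2
  exact B.memL hK (pmul a3 (pinv b3)) ((red D2.C T b1 b2 a1).resolve_left a2)

omit hK

theorem norm {d : TD} (T : TC D2.D d) {h : G} (h1 : Ot Λ d h) : ∃ l ∈ L, (E d.x, l * h) ∈ Nm Λ := by
  obtain ⟨a, a1, a2, a3⟩ := h1
  obtain ⟨l, hl⟩ := B.dom _ ((red D2.C T a1 a2 (mem_sup_right (mem_zpowers _))).resolve_left (T.not_mem D2.C))
  exact ⟨l, (B.mem hl).2, by simpa using pmul (le_normalizer hl) a3⟩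

theorem comm_z [Finite G] {d : TD} (T : TC D2.D d) {h : G} (h1 : Ot Λ d h) :
    Commute h (el D2.D Λ 19) ↔ Commute (E d.x) (E 19) := by
  obtain ⟨l, hl, e⟩ := B.norm T h1
  have c := (B.fr pk2).comm l hl _ (B.fr pk2).zK
  rw [B.comm_iff e (B.el_mem D2.C 19)]
  exact ⟨c.mul_left, fun e => by simpa using c.inv_left.mul_left e⟩

theorem rep28 {h : G} (h1 : Ot Λ D2.d0 h) (h2 : h * h = 1) : ∃ l ∈ L, (E 28, l * h * l⁻¹) ∈ Nm Λ := by
  obtain ⟨a, a1, a2, a3⟩ := h1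
  obtain ⟨r, hr, -, h⟩ := B.rep D2.C x20 a3 a1 a2 h2
  rwa [List.mem_singleton.1 hr] at h

theorem rep32 {h : G} (h1 : Ot Λ D2.d4 h) (h2 : h * h = 1) : ∃ l ∈ L, (E 32, l * h * l⁻¹) ∈ Nm Λ := by
  obtain ⟨a, a1, a2, a3⟩ := h1
  obtain ⟨r, hr, -, l, hl, h⟩ := B.rep D2.C x24 a3 a1 a2 h2
  refine ⟨l, hl, ?_⟩
  rcases (by decide : ∀ r ∈ D2.d4.reps, r = 32 ∨ r = 0x2013) r hr with rfl | rfl
  · exact h
  · simpa [← e21 32 19 0x2013] using pmul h (pinv (B.one_mem' fun _ => D2.C.comm_z))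

end Emb

theorem index_two [Finite G] [IsSimpleGroup G] (hG : ¬IsMulCommutative G) (B : Emb D2.D [D2.d0, D2.d2, D2.d4] Λ L)
    (hK : centralizer (L : Set G) ≤ L) {g : G} (hg : g * el D2.D Λ 0x1313 * g⁻¹ = el D2.D Λ 20) :
    L.relIndex (centralizer {el D2.D Λ 0x1313}) = 2 := by
  have C := D2.C
  have F := B.fr pk2
  have gr := B.graph
  have hz := B.el_mem C 19
  have ht := B.el_mem C 0x1313
  have hv := B.el_mem C 20
  have hy := B.el_mem C 25
  have he := B.el_mem C 24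
  have c28 := fun h (a : Ot Λ D2.d0 h) => mt (B.comm_z D2.T0 a).1
    fun e => C.mod.ne (l := [28, 19]) (l' := [19, 28]) (by decide +kernel) (by rw [evL_two, evL_two]; exact e)
  have c32 := fun h (a : Ot Λ D2.d4 h) => mt (B.comm_z D2.T4 a).1
    fun e => C.mod.ne (l := [32, 19]) (l' := [19, 32]) (by decide +kernel) (by rw [evL_two, evL_two]; exact e)
  have c30 := fun h (a : Ot Λ D2.d2 h) => (B.comm_z D2.T2 a).2 (e2 30 19 19 30)
  have ty := fun h => B.types hK (h := h)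
  have cd := fun d hd a h h1 h2 => B.cand C (pk2.ext d hd) (a := a) (h := h) h1 h2
  have ac := fun h => B.act' C (h := h)
  generalize el D2.D Λ 19 = z at *
  generalize el D2.D Λ 0x1313 = t at *
  generalize el D2.D Λ 20 = v at *
  generalize el D2.D Λ 25 = y at *
  generalize el D2.D Λ 24 = e at *
  obtain ⟨m, m1, m2⟩ := F.exists_swap hg
  have vt := F.cL F.vL
  have s2 : m * (v * t) * m⁻¹ = v * t := by rw [← conj_mul, m1, m2, vt.eq]
  have α2 : m * z * m⁻¹ * (m * z * m⁻¹) = v := by rw [conj_mul, F.zz, m1]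
  have α3 := fun c (hc : Commute c v) => m1 ▸ F.nz' (m1 ▸ hc : Commute c (m * t * m⁻¹))
  obtain ⟨a, ha⟩ : ∃ a, (a, m * z * m⁻¹) ∈ Λ := by
    obtain ⟨d, hd, a, ha, h⟩ := ac _ (F.comm_K (m1 ▸ F.vL) F.zK)
    obtain ⟨w, hw, h1⟩ := cd d hd a _ h ha α2 α3
    exact B.cod _ (B.memL hK h (h1 (cd2_ok w hw).1 ▸ C.mem (cd2_ok w hw).2.1))
  obtain ⟨w, hw, h1⟩ := cd D2.d0 (by simp) a _ (le_normalizer ha) (mem_sup_left (B.mem ha).1) α2 α3
  obtain ⟨w0, -, h2⟩ := cd2_ok w hw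
  obtain rfl := h1 w0
  obtain ⟨⟨w, w'⟩, hw', rfl, w1, p1, p2, p3, p4⟩ := h2 ((C.mod.chk_iff _).2 (by
    rw [Eqn.Holds, evL_two, evL_one]; exact gr.fst_eq (pmul ha ha) (α2 ▸ hv)))
  have y1 : y * m * t * (y * m)⁻¹ = v * t := by
    rw [← (B.conj_iff (le_normalizer hy) hv (pmul hv ht)).1 (by
      rw [e3 25 20 20 0x1313 25, mul_inv_cancel_right]), ← m1]; group
  have hb : (E w', y * m * z * (y * m)⁻¹) ∈ Λ := by
    have := Emb.cj (le_normalizer hy) ha
    rw [e2 _ _ _ _ p3, mul_inv_cancel_right] at this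
    simpa [mul_assoc] using this
  have mz := F.nz (h := m * m) (mul_inv_eq_iff_eq_mul.1 (by rw [← m2]; nth_rw 1 [m2]; rw [← m1]; group))
  rw [show m * m * z * (m * m)⁻¹ = m * (m * z * m⁻¹) * m⁻¹ by group] at mz
  have mb := F.nz' (g := y * m) (c := m) (mul_inv_eq_iff_eq_mul.1 (by rw [y1, s2]))
  rw [y1] at mb
  have inv : ∀ u, (E 32, u) ∈ Nm Λ → u * (y * m * z * (y * m)⁻¹) * u⁻¹ = y * m * z * (y * m)⁻¹ * (v * t) :=
    fun u hu => (B.conj_iff hu hb (pmul hb (pmul hv ht))).1 (by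
      rw [← evL_two, eL _ _ p4]; simp [evL_cons, evL_nil, mul_assoc])
  have n32 : ∀ u, Ot Λ D2.d4 u → ¬IsConj t u := fun u h1 h2 => by
    obtain ⟨x, rfl⟩ := isConj_iff.1 h2
    obtain ⟨l, -, hu⟩ := B.rep32 h1 (conj_sq x F.tt)
    rw [show l * (x * t * x⁻¹) * l⁻¹ = l * x * t * (l * x)⁻¹ by group] at hu
    generalize l * x = x at hu
    have k1 := B.el_mem C 0xe16
    have k2 := B.el_mem C 0xd17
    have h3 := F.inn_mul (F.sq_inn ((B.comm_iff hu k1).1 (e2 32 0xe16 0xe16 32)).symm)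
      (F.sq_inn ((B.comm_iff hu k2).1 (e2 32 0xd17 0xd17 32)).symm)
    rw [show ∀ a b : G, x⁻¹ * a * x * (x⁻¹ * b * x) = x⁻¹ * (a * b) * x from fun _ _ => by group,
      gr.snd_eq (pmul (pmul k1 k1) (pmul k2 k2)) (by
        rw [show _ * _ = E 20 * E 0x1313 by
          simpa [evL_cons, evL_nil, mul_assoc] using eL [0xe16, 0xe16, 0xd17, 0xd17] [20, 0x1313]]
        exact pmul hv ht), ← y1, show x⁻¹ * (y * m * t * (y * m)⁻¹) * x = x⁻¹ * (y * m) * t * (x⁻¹ * (y * m))⁻¹ by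
        group] at h3
    have h4 : Commute (x * t * x⁻¹) (y * m * z * (y * m)⁻¹) := StdInt.comm_conj.2 (by
      simpa [mul_assoc] using F.comm _ (F.mem_inv (F.mem h3)) z F.zK)
    have h5 := inv _ hu
    rw [h4.eq, mul_inv_cancel_right, left_eq_mul, ← y1, conj_eq_one_iff] at h5
    exact F.t1 h5
  have ee : e * e = 1 := gr.snd _ (by simpa [e21 24 24 0, ev_zero] using pmul he he)
  have ev' : Commute e v := (gr.commute_iff he hv).1 (e2 24 20 20 24)
  have e1 : Commute (m * e * m⁻¹) t := m2 ▸ ev'.map (MulAut.conj m)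
  have e4 : ¬Commute (m * e * m⁻¹) z := fun h => F.t1 (by
    have := flip e1 mz (by
      rw [← m2, conj_mul, conj_mul, ← (B.conj_iff (le_normalizer he) ha (pmul ha hv)).1 (by
        rw [e3 _ _ _ _ _ p1, mul_inv_cancel_right])]; group)
    rwa [h.eq, mul_inv_cancel_right, left_eq_mul] at this)
  have e5 : IsConj t (m * e * m⁻¹) := (isConj_iff.2 (F.conj_L hg (B.mem he).2 ee fun h => e4 (by simp [h]))).trans
    (isConj_iff.2 ⟨m, rfl⟩)
  have e6 : m * e * m⁻¹ ∉ L := fun h => e4 (F.comm _ h z F.zK)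
  have e7 := ((ty _ e1).resolve_left e6).resolve_right fun h => h.elim (fun h => e4 (c30 _ h)) fun h => n32 _ h e5
  have N : Nrm L (m * e * m⁻¹) := ⟨F.nL _ e1, by rw [conj_sq m ee]; exact one_mem L⟩
  generalize m * e * m⁻¹ = f at *
  have H0 : L ⊔ zpowers f ≤ centralizer {t} := sup_le (fun l hl => mem_centralizer_singleton_iff.2 (F.cL hl))
    (zpowers_le.2 (mem_centralizer_singleton_iff.2 e1))
  have ty' : ∀ h, Commute h t → h ∉ L ⊔ zpowers f → Ot Λ D2.d2 h ∨ Ot Λ D2.d4 h := fun h h1 h2 =>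
    ((ty h h1).resolve_left fun a => h2 (mem_sup_left a)).resolve_left fun a => h2 (N.mem.2 (.inr (B.div hK D2.T0 a e7)))
  refine (H0.eq_or_lt.resolve_right fun hlt => ?_) ▸ N.relIndex e6
  obtain ⟨u, u1, u2, hu⟩ : ∃ u, Commute u t ∧ u ∉ L ⊔ zpowers f ∧ (E 32, u) ∈ Nm Λ := by
    obtain ⟨h, h1, h2, h3⟩ : ∃ h, Commute h t ∧ h ∉ L ⊔ zpowers f ∧ Ot Λ D2.d4 h := by
      obtain ⟨h, h1, h2⟩ := SetLike.exists_of_lt hlt
      have h1 := mem_centralizer_singleton_iff.1 h1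
      have h3 : h * f ∉ L ⊔ zpowers f := by rwa [mul_mem_cancel_right (mem_sup_right (mem_zpowers f))]
      exact (ty' h h1 h2).elim (fun a => ⟨_, Commute.mul_left h1 e1, h3, (ty' _ (Commute.mul_left h1 e1) h3).resolve_left
        fun b => e4 (by simpa using (c30 _ a).inv_left.mul_left (c30 _ b))⟩) fun a => ⟨h, h1, h2, a⟩
    obtain ⟨l, hl, h4⟩ := B.norm D2.T4 h3
    exact ⟨_, (F.cL hl).mul_left h1, by rwa [mul_mem_cancel_left (mem_sup_left hl)], h4⟩
  have u3 : Ot Λ D2.d4 u := ⟨_, mem_sup_right (mem_zpowers _), D2.T4.not_mem C, hu⟩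
  have uz := (F.nz u1).resolve_left fun h => c32 u u3 (mul_inv_eq_iff_eq_mul.1 h)
  have uv : Commute u v := (B.comm_iff hu hv).1 (e2 32 20 20 32)
  have u4 : u * u = 1 := by
    have h1 : u * u ∈ centralizer (L : Set G) := (B.mem_K (pmul hu hu)).2 fun _ _ => by simp [e21 32 32 0, ev_zero]
    have h2 : Commute u (u * u) := (Commute.refl u).mul_right rfl
    rcases F.mem_z (F.inter _ (hK h1) h1) with h | h | h | h
    · exact h
    · exact absurd (h ▸ h2) (c32 u u3)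
    · have a1 : Commute (m * u * m⁻¹) t := m2 ▸ uv.map (MulAut.conj m)
      have a2 : Commute (m * u * m⁻¹) v := m1 ▸ u1.map (MulAut.conj m)
      obtain ⟨d, hd, a, a3, a4⟩ := ac _ a1
      have T := pk2.ext d hd
      have a5 : rtB d.x = true := by
        simp only [List.mem_cons, List.not_mem_nil, or_false] at hd
        rcases hd with rfl | rfl | rfl
        exacts [rt28, rt30, rt32]
      have b1 := (B.conj_iff a4 hz (pmul hz ht)).2 (flip a1 mz (by
        rw [← m2, conj_mul, conj_mul, ← (B.conj_iff hu ha (pmul ha hv)).1 (by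
          rw [e3 _ _ _ _ _ p2, mul_inv_cancel_right])]; group))
      have b2 := (B.conj_iff a4 ha (pmul ha hv)).2 (by rw [← m1, conj_mul, conj_mul, ← uz]; group)
      have b3 := (B.conj_iff a4 hb (pmul hb (pmul hv ht))).2 (flip (a2.mul_right a1) mb (by
        rw [← s2, conj_mul, conj_mul, ← inv u hu]; group))
      obtain ⟨c, hc, b4⟩ := impB_sound C.mod (allL_sound a5 _ hw') (T.K_NF C ((T.mem_K C).2
        ⟨a3, (B.comm_iff a4 hv).2 a2⟩)) (by
          simp only [List.forall_mem_cons]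
          exact ⟨by simpa [Sg, evV, mul_assoc] using mul_inv_eq_iff_eq_mul.1 b1,
            by simpa [Sg, evV, w0, mul_assoc] using mul_inv_eq_iff_eq_mul.1 b2,
            by simpa [Sg, evV, w1, mul_assoc] using mul_inv_eq_iff_eq_mul.1 b3, by simp⟩)
      rw [List.mem_singleton.1 hc] at b4
      have b5 : a * a = 1 := by simpa [Sg, evV] using b4 _ List.mem_cons_self
      exact absurd ((B.mem_K (pmul a4 a4)).2 fun _ _ => by simp [b5]) (by
        rw [conj_mul, h]; exact F.notK (m1 ▸ F.vt))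
    · exact absurd (by simpa [mul_assoc, F.tt] using (h ▸ h2 : Commute u (z * t)).mul_right u1) (c32 u u3)
  rcases Transfer.thompson_transfer (odd_index F.tt F.t1 (F.neg hg)) (Q := L ⊔ zpowers f) (u := u)
    (relIndex_eq_two_iff.2 ⟨u⁻¹, inv_mem (mem_centralizer_singleton_iff.2 u1), fun b hb => by
      have hb := mem_centralizer_singleton_iff.1 hb
      by_cases h : b ∈ L ⊔ zpowers f
      · exact Or.inr ⟨h, fun h' => u2 (inv_mem_iff.1 ((mul_mem_cancel_left h).1 h'))⟩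
      · refine Or.inl ⟨by_contra fun h' => ?_, h⟩
        rcases ty' b hb h with a | a
        · rcases ty' _ (Commute.mul_left hb u1.inv_left) h' with a' | a'
          · exact c32 _ u3.inv (by simpa using (c30 _ a).inv_left.mul_left (c30 _ a'))
          · exact h (mem_sup_left (by simpa using B.div hK D2.T4 a' u3.inv))
        · exact h' (mem_sup_left (B.div hK D2.T4 a u3))⟩)
    (orderOf_eq_prime (by rw [pow_two, u4]) fun h => u2 (h ▸ one_mem _)) with ⟨M, a1, a2, -⟩ | ⟨x, hx⟩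
  · rcases a1.eq_bot_or_eq_top with h | h
    · rw [h, index_bot] at a2
      have := isCyclic_of_prime_card a2
      exact hG inferInstance
    · simp [h] at a2
  refine n32 u u3 (IsConj.trans ?_ (isConj_iff.2 ⟨x, rfl⟩).symm)
  have x2 := conj_sq x u4
  have x1 : x * u * x⁻¹ ≠ 1 := fun h => u2 (conj_eq_one_iff.1 h ▸ one_mem _)
  have x3 := mem_centralizer_singleton_iff.1 (H0 hx)
  generalize x * u * x⁻¹ = s at *
  by_cases x4 : s ∈ L
  · exact isConj_iff.2 (F.conj_L hg x4 x2 x1)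
  obtain ⟨l, hl, a1⟩ := B.rep28 (h := s) (by
    obtain ⟨b, b1⟩ := B.cod _ ((N.mem.1 hx).resolve_left x4)
    obtain ⟨a, a1, a2, a3⟩ := e7
    exact ⟨_, mul_mem (mem_sup_left (B.mem b1).1) a1, by rwa [mul_mem_cancel_left (B.mem b1).1],
      by simpa using pmul (le_normalizer b1) a3⟩) x2
  obtain ⟨k, hk, a2⟩ := B.rep28 e7 (by simpa using (isConj_iff.1 e5).elim fun c h => h ▸ conj_sq c F.tt)
  have a3 := e5.trans (isConj_iff.2 ⟨k, rfl⟩)
  have a4 : Commute (k * f * k⁻¹) t := ((F.cL hk).mul_left e1).mul_left (F.cL hk).inv_left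
  have a5 : k * f * k⁻¹ ∉ L := by rwa [mul_mem_cancel_right (inv_mem hk), mul_mem_cancel_left hk]
  generalize k * f * k⁻¹ = f at a2 a3 a4 a5
  have a6 := (B.mem_K (pmul (pinv a2) a1)).2 fun _ _ => by simp
  have k1 := B.el_mem C 0x1117
  have a7 : IsConj t (f * (z * t)) := a3.trans (isConj_iff.2 ⟨el D2.D Λ 0x1117, by
    have := (B.conj_iff (pinv a2) k1 (pmul (pmul hz ht) k1)).1 (by
      rw [inv_inv, mul_assoc, inv_mul_eq_iff_eq_mul]
      simpa [evL_cons, evL_nil, mul_assoc] using eL [0x1117, 28] [28, 19, 0x1313, 0x1117])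
    rw [show z * t = f⁻¹ * el D2.D Λ 0x1117 * f⁻¹⁻¹ * (el D2.D Λ 0x1117)⁻¹ from eq_mul_inv_of_mul_eq this.symm]; group⟩)
  refine IsConj.trans ?_ (isConj_iff.2 ⟨l, rfl⟩).symm
  rw [show l * s * l⁻¹ = f * (f⁻¹ * (l * s * l⁻¹)) by group]
  rcases F.mem_z (F.inter _ (hK a6) a6) with h | h | h | h <;> rw [h]
  · rwa [mul_one]
  · simpa [mul_assoc, F.tt] using F.neg hg _ a7 (a4.mul_left ((F.cL F.zL).mul_left rfl)) fun h =>
      a5 ((mul_mem_cancel_right (mul_mem F.zL F.tL)).1 (h.symm ▸ F.tL))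
  · exact F.neg hg _ a3 a4 fun h => a5 (h ▸ F.tL)
  · exact a7

/-- recognition of the O'Nan group from a standard subgroup -/
theorem recog_std [Finite G] [IsSimpleGroup G] (hG : ¬IsMulCommutative G) (hL : Cfsg.IsStandardSubgroup L)
    (hZc : IsCyclic (center L)) (hZ4 : Nat.card (center L) = 4) {F : Type*} [Field F] [Fintype F]
    (hF : Fintype.card F = 4) (e : L ⧸ center L ≃* Matrix.ProjectiveSpecialLinearGroup (Fin 3) F) :
    Nonempty (G ≃* Cfsg.Spor.ON) := by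
  have hp : _root_.commutator L = ⊤ := hL.1.1.commutator_eq_top
  have ex : ∀ {z t v : G}, Fr L (centralizer (L : Set G)) z t v → ∃ g, g * t * g⁻¹ = v := fun {z t v} F => by
    have hO : Cfsg.oddCore G = ⊥ := (Normal.eq_bot_or_eq_top inferInstance).resolve_right fun e =>
      F.t1 (StdInt.eq_one_of_odd_sq (StdInt.odd_of_mem (Core.odd_card_oddCore G) (e ▸ mem_top t : t ∈ Cfsg.oddCore G)) F.tt)
    obtain ⟨g, h1, h2⟩ : ∃ g, Commute (g * t * g⁻¹) t ∧ g * t * g⁻¹ ≠ t := by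
      by_contra! h1
      have h := ZStar.zstar_center hO ⟨F.ord, fun g hg => h1 g hg.symm⟩
      rcases Normal.eq_bot_or_eq_top (inferInstance : (center G).Normal) with e | e
      · exact F.t1 (by rwa [e] at h)
      · exact hG ⟨⟨fun x y => mem_center_iff.1 (e ▸ mem_top y : y ∈ center G) x⟩⟩
    exact F.exists_v h1 h2
  obtain ⟨e'⟩ := LieModel.L34.iso hF
  obtain ⟨ζ, hζ⟩ := hZc.exists_generator
  have C : Cov ((e.trans e').toMonoidHom.comp (QuotientGroup.mk' _)) (ζ : L) :=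
    ⟨(e.trans e').surjective.comp (QuotientGroup.mk'_surjective _), ζ.2, fun a => by
      refine ((e.trans e').map_eq_one_iff.trans (QuotientGroup.eq_one_iff a)).trans
        ⟨fun h => ?_, fun h => zpowers_le.2 ζ.2 h⟩
      obtain ⟨k, hk⟩ := hζ ⟨a, h⟩
      exact ⟨k, congrArg Subtype.val hk⟩,
      by rw [orderOf_coe, orderOf_eq_card_of_forall_mem_zpowers hζ, hZ4], ⟨hp⟩⟩
  rcases exists_iso C with ⟨⟨ψ⟩⟩ | ⟨⟨ψ⟩⟩
  · obtain ⟨Λ, B⟩ := exists_emb pk1 hL ψ
    have F := B.fr pk1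
    obtain ⟨g, hg⟩ := ex F
    obtain ⟨d, hd, a, ha, h⟩ := B.act' D1.C (F.comm_K (hg ▸ F.vL) F.zK)
    obtain ⟨w, hw, -⟩ := B.cand D1.C (pk1.ext d hd) h ha (by rw [conj_mul, F.zz, hg]) fun c hc =>
      hg ▸ F.nz' (hg ▸ hc)
    exact absurd hw List.not_mem_nil
  obtain ⟨Λ, B⟩ := exists_emb pk2 hL ψ
  have F := B.fr pk2
  obtain ⟨g, hg⟩ := ex F
  have hK := F.le (fun _ => by
    have : Nontrivial L := ⟨⟨_, F.tL⟩, 1, fun e => F.t1 (congrArg Subtype.val e)⟩
    exact (Group.IsSolvable.commutator_lt_top_of_nontrivial L).ne hp) hg fun k => F.two_K hg B.h8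
  have h1 := index_two hG B hK hg
  generalize el D2.D Λ 0x1313 = t at *
  have h2 : L ≤ centralizer {t} := fun l hl => mem_centralizer_singleton_iff.2 (F.cL hl)
  have : (L.subgroupOf (centralizer {t})).Normal :=
    ⟨fun a ha c => F.nL c (mem_centralizer_singleton_iff.1 c.2) a ha⟩
  have := C.perf
  let φ := subgroupOfEquivOfLe h2
  have h3 : (center _).map φ.toMonoidHom = center L := by
    ext x
    exact ⟨fun ⟨y, h, e⟩ => e ▸ (centerCongr φ ⟨y, h⟩).2, fun h => ⟨_, (centerCongr φ.symm ⟨x, h⟩).2, φ.apply_symm_apply x⟩⟩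
  exact recog F.ord (L.subgroupOf _) h1 (fun x hx => hK fun l hl => congrArg Subtype.val (hx ⟨l, h2 hl⟩ hl))
    ((centerCongr φ).isCyclic.2 hZc) ((Nat.card_congr (centerCongr φ).toEquiv).trans hZ4)
    (Group.IsPerfect.ofSurjective (f := φ.symm.toMonoidHom) φ.symm.surjective).commutator_eq_top hF
    ((QuotientGroup.congr _ _ φ h3).trans e)

end CfsgLib.ONStd
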